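import Cfsg.Agent.Omega.KL.Mor
import Cfsg.Agent.Omega.ML.Ex.Def

/-!
# THEOREM KLF (#21950 (3) = #22692 (8)): the literal input and output (helper462)

* `Pre T A E Y x` : **the input**: `X` acts (not necessarily faithfully) on the elementary abelian 2-group
  `M = ⟨x^X⟩`, `T` a Sylow 2-subgroup of `X` which fixes `x` and normalises `Y ≤ M`; a mover `R` of `x` (`R` a
  `T`-minimal subgroup or `R = N_X(T)`) has `[Y, O²(R)] = 1`; the elements of odd order of `C_X(Y)` are in `E`, and `A`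
  centralises `x^E`; `A ≤ O₂(C_X(x))` elementary abelian, exact and non-trivial on `M`; `X` a K-group;
* `Out T A x y` : **the output**: `X` faithful and irreducible on `M`, `T` a Sylow 2-subgroup in at least two maximal
  subgroups, `x ≠ y` non-trivial `T`-fixed vectors; a mover `R` of `x` (`R` a `T`-minimal subgroup or `R = N_X(T)`)
  fixes `y`; `A ≤ T` an exact atom, `|A| ≥ 4`, `A ≤ O₂(R)` for all `T ≤ R < X`;
* `Sec R π U q` : `R ≤ X` acts on the section `U / ker q` of `M` like `H = π(R)` acts on `q(U)`.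
-/

set_option autoImplicit false

namespace Cfsg.Agent.Omega.KLF.Def

open Subgroup Cfsg Cfsg.Agent.ZN Cfsg.Agent.ClassTwoFusion.Quad Cfsg.Agent.Omega.ML.MinFrame
open Cfsg.Agent.MinSimple.MinParabolic (IsMinPar)
open Cfsg.Agent.MinSimple.VModule (o2_le)

universe u v

/-- **the input of THEOREM KLF** -/
structure Pre {X : Type u} [Group X] {M : Type v} [Group M] [MulDistribMulAction X M] (T A E : Subgroup X)
    (Y : Subgroup M) (x : M) : Prop where
  sq : ∀ m : M, m * m = 1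
  gen : orb (⊤ : Subgroup X) x = ⊤
  two : IsPGroup 2 T
  syl : ¬ 2 ∣ T.index
  fx : ∀ t ∈ T, t • x = x
  tY : ∀ t ∈ T, ∀ w ∈ Y, t • w ∈ Y
  mN : (∃ g ∈ normalizer (T : Set X), g • x ≠ x) →
    ∀ g ∈ normalizer (T : Set X), Odd (orderOf g) → ∀ w ∈ Y, g • w = w
  mP : ∀ P : Subgroup X, IsMinPar T P → (∃ p ∈ P, p • x ≠ x) → ∀ p ∈ P, Odd (orderOf p) → ∀ w ∈ Y, p • w = w
  cY : ∀ g : X, Odd (orderOf g) → (∀ w ∈ Y, g • w = w) → g ∈ E
  cE : ∀ a ∈ A, ∀ k ∈ E, a • k • x = k • x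
  el : ∀ a ∈ A, a * a = 1
  Ax : A ≤ o2 (MulAction.stabilizer X x)
  exact : (cv M (A : Set X)).index ≤ (fxr X (⊤ : Subgroup M)).relIndex A
  mv : ∃ a ∈ A, ∃ m : M, a • m ≠ m
  KX : IsKGroup X

/-- **the output of THEOREM KLF** -/
structure Out {X : Type u} [Group X] {M : Type v} [Group M] [MulDistribMulAction X M] (T A : Subgroup X)
    (x y : M) : Prop where
  sq : ∀ m : M, m * m = 1
  faith : ∀ g : X, (∀ m : M, g • m = m) → g = 1
  irr : ∀ W : Subgroup M, (∀ g : X, ∀ w ∈ W, g • w ∈ W) → W = ⊥ ∨ W = ⊤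
  two : IsPGroup 2 T
  syl : ¬ 2 ∣ T.index
  x1 : x ≠ 1
  y1 : y ≠ 1
  xy : x ≠ y
  fx : ∀ t ∈ T, t • x = x
  fy : ∀ t ∈ T, t • y = y
  mN : (∃ g ∈ normalizer (T : Set X), g • x ≠ x) → ∀ g ∈ normalizer (T : Set X), g • y = y
  mP : ∀ P : Subgroup X, IsMinPar T P → (∃ p ∈ P, p • x ≠ x) → ∀ p ∈ P, p • y = y
  AT : A ≤ T
  el : ∀ a ∈ A, a * a = 1
  four : 4 ≤ Nat.card A
  exact : (cv M (A : Set X)).index = Nat.card A
  atom : ∀ C : Subgroup X, C ≤ A → C ≠ ⊥ → C ≠ A → Nat.card C < (cv M (C : Set X)).index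
  low : ∀ R : Subgroup X, T ≤ R → R ≠ ⊤ → A ≤ o2 R
  nmax : ¬ ∃ N : Subgroup X, N ≠ ⊤ ∧ ∀ R : Subgroup X, T ≤ R → R ≠ ⊤ → R ≤ N
  KX : IsKGroup X

/-- `R ≤ X` acts on the section `U / ker q` of `M` like `H = π(R)` acts on `N = q(U)` -/
structure Sec {X : Type*} [Group X] {M : Type*} [Group M] [MulDistribMulAction X M] {H : Type*} [Group H]
    {N : Type*} [Group N] [MulDistribMulAction H N] (R : Subgroup X) (π : R →* H) (U : Subgroup M) (q : U →* N) :
    Prop where
  surjπ : Function.Surjective π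
  surjq : Function.Surjective q
  inv : ∀ r ∈ R, ∀ u ∈ U, r • u ∈ U
  eq : ∀ (r : R) (u : U) (h : (r : X) • (u : M) ∈ U), q ⟨(r : X) • (u : M), h⟩ = π r • q u

namespace Out

variable {X : Type u} [Group X] {M : Type v} [Group M] [MulDistribMulAction X M] {T A : Subgroup X} {x y : M}

/-- `A` is sub-exact -/
theorem sub (h : Out T A x y) : ∀ C : Subgroup X, C ≤ A → Nat.card C ≤ (cv M (C : Set X)).index := by
  intro C hC
  by_cases h1 : C = ⊥
  · subst h1
    have e : cv M ((⊥ : Subgroup X) : Set X) = ⊤ := by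
      rw [eq_top_iff]
      intro m _ b hb
      rw [mem_bot.1 hb, one_smul]
    rw [e, index_top, card_bot]
  by_cases h2 : C = A
  · rw [h2, h.exact]
  · exact (h.atom C hC h1 h2).le

/-- the form of the rows -/
theorem inX (h : Out T A x y) {K : Subgroup X} (norm : K.Normal) (simple : IsSimpleGroup K)
    (cen : centralizer (K : Set X) = ⊥) (KT : K ⊔ T = ⊤) : ML.Ex.InX X M K T A where
  sq := h.sq
  faith := h.faith
  irr := h.irr
  norm := norm
  simple := simple
  cen := cen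
  gen := KT
  two := h.two
  syl := h.syl
  AT := h.AT
  el := h.el
  four := h.four
  exact := h.exact
  sub := h.sub
  low := h.low
  nmax := h.nmax

end Out

end Cfsg.Agent.Omega.KLF.Def
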