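import Cfsg.Agent.Omega.ML.Ex.TwoOdd

/-!
# THEOREM KLF, (9): the output is impossible, from the end EXT (helper903)

* `Out.exists_mover` : the output of THEOREM KLF has an overgroup `R` of `T` (a `T`-minimal subgroup or `N_X(T)`)
  which fixes `y` and moves `x`;
* `Out.odd` : `O(X) = 1` (helper529, helper566);
* `Out.sysT` : the output is a situation `SysT` of EXT (helper585);
* **`Out.false`** : so the output is impossible.
-/

set_option autoImplicit false

namespace Cfsg.Agent.Omega.KLF.Def

open Subgroup Cfsg Cfsg.Agent.ZN Cfsg.Agent.ClassTwoFusion.Quad Cfsg.Agent.Omega.ML.MinFrame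
open Cfsg.Agent.MinSimple.MinParabolic (IsMinPar)

universe u v

namespace Out

section

variable {X : Type u} [Group X] [Finite X] {M : Type v} [Group M] [MulDistribMulAction X M] {T A : Subgroup X}
  {x y : M}

/-- some `T`-minimal subgroup or `N_X(T)` moves `x` and fixes `y` -/
theorem exists_mover (h : Out T A x y) : ∃ R : Subgroup X, T ≤ R ∧ (∀ r ∈ R, r • y = y) ∧ ∃ r ∈ R, r • x ≠ x := by
  rcases ML.Ex.TwoOdd.exists_mover (T := T) h.irr h.sq h.x1 h.y1 h.xy with ⟨P, hP, hx⟩ | hN
  · exact ⟨P, hP.le, h.mP P hP hx, hx⟩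
  · exact ⟨normalizer (T : Set X), le_normalizer, h.mN hN, hN⟩

/-- `O(X) = 1` -/
theorem odd (h : Out T A x y) {N : Subgroup X} (hN : N.Normal) (hNo : Odd (Nat.card N)) : N = ⊥ := by
  rcases ML.Ex.TwoOdd.sysE_of_out h with h1 | h1
  · exact h1.odd hN hNo
  · exact h1.odd hN hNo

/-- **the output of THEOREM KLF is a situation of EXT** -/
theorem sysT (h : Out T A x y) : ML.Ex.Two.SysT X M T A x y where
  x1 := h.x1
  y1 := h.y1
  tx := h.fx
  ty := h.fy
  mv := h.exists_mover
  sq := h.sq
  faith := h.faith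
  irr := h.irr
  two := h.two
  syl := h.syl
  AT := h.AT
  el := h.el
  four := h.four
  exact := h.exact
  atom := h.atom
  low := h.low
  nmax := h.nmax
  odd := fun _ hN hNo => h.odd hN hNo
  KH := h.KX

end

/-- **(9)** : the output of THEOREM KLF is impossible (EXT) -/
theorem false (hE : ML.Ex.Two.Ext.{u, v}) {X : Type u} [Group X] [Finite X] {M : Type v} [Group M] [Finite M]
    [MulDistribMulAction X M] {T A : Subgroup X} {x y : M} (h : Out T A x y) : False :=
  hE X M T A x y h.sysT

end Out

end Cfsg.Agent.Omega.KLF.Def
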