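import Cfsg.Agent.Omega.KLF.Low
import Cfsg.Agent.Omega.KLF.End

/-!
# THEOREM KLF: the input is impossible (helper903)

`Pre.false` : THEOREM KLF = `Low.exists_out` (helper462) + EXT (helper585) through `Out.sysT`. No case distinction on
the size of the section and no transport of the movers is needed.
-/

set_option autoImplicit false

namespace Cfsg.Agent.Omega.KLF.Def

open Subgroup Cfsg Cfsg.Agent.Omega.ML.Final

universe u v

/-- **THEOREM KLF** (#21950, #22692 (8) + (9)) -/
theorem Pre.false (ml : MLK.{u, v}) (hE : ML.Ex.Two.Ext.{u, v}) {X : Type u} [Group X] [Finite X] {M : Type v}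
    [Group M] [Finite M] [MulDistribMulAction X M] {T A E : Subgroup X} {Y : Subgroup M} {x : M}
    (h : Pre T A E Y x) : False := by
  obtain ⟨R, H, _, _, N, _, _, _, π, U, q, A', y, hx, hy, -, -, -, -, hout⟩ := Low.exists_out ml h
  exact hout.false hE

end Cfsg.Agent.Omega.KLF.Def
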