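import Cfsg.Agent.Omega.KLF.Def
import Cfsg.Agent.Omega.KL.GenTool
import Cfsg.Agent.Omega.TC.TT
import Cfsg.Agent.Omega.ML.MinIrr

/-!
# THEOREM KLF (#21950 (3) = #22692 (8), in the form of #22912 (c)): `Pre → Out` for a section (helper462)

* `exists_two_pow`, `sup_eq_top`, `mem_of_odd`, `fix_of_odd` : elements of odd order (`O²(X)`);
* `exists_atom` : an exact atom `B ≤ A`, faithful on `M`;
* `Mid` : the situation in `X₀ ≥ T` minimal with `[⟨x^X₀⟩, B] ≠ 1`;  `exists_mid`;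
* `Mid.exact` : a `T`-fixed vector `n ≠ 1` of `N = M / C_M(O²(X₀))` : `B` is faithful and exact on `⟨n^X₀⟩`,
  `N = ⟨n^X₀⟩ C_N(B)`;  `Mid.mem_orb` : `⟨n^X₀⟩` contains all `T`-fixed vectors;  `Mid.out`;
* **`exists_out`**.
-/

set_option autoImplicit false

namespace Cfsg.Agent.Omega.KLF.Low

open Subgroup Cfsg Cfsg.Agent.ZN Cfsg.Agent.ClassTwoFusion.Quad Cfsg.Agent.Omega.ML.MinFrame
open Cfsg.Agent.Omega.ML.Final Cfsg.Agent.Omega.KL.GenTool Cfsg.Agent.Omega.KLF.Def
open Cfsg.Agent.MinSimple.MinParabolic (IsMinPar le_of_forall)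
open Cfsg.Agent.MinSimple.VModule (o2_isPGroup o2_le le_o2 le_normalizer_o2 o2_le_of_sylow)
open Cfsg.Agent.Omega.NOThree.NoOver (relIndex_ne)

universe u v

/-! ### Elements of odd order -/

section odd

variable {X : Type*} [Group X]

theorem exists_two_pow [Finite X] (g : X) : ∃ a : ℕ, Odd (orderOf (g ^ 2 ^ a)) := by
  obtain ⟨a, m, hm, h⟩ := Nat.exists_eq_two_pow_mul_odd (orderOf_pos g).ne'
  refine ⟨a, ?_⟩
  rw [orderOf_pow_of_dvd (by positivity) (Dvd.intro m h.symm), h, Nat.mul_div_cancel_left _ (by positivity)]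
  exact hm

/-- `X = O²(X) T` -/
theorem sup_eq_top [Finite X] {T K : Subgroup X} (hK : K.Normal) (syl : ¬ 2 ∣ T.index)
    (ho : ∀ g : X, Odd (orderOf g) → g ∈ K) : K ⊔ T = ⊤ := by
  have h1 : IsPGroup 2 (X ⧸ K) := by
    intro q
    obtain ⟨g, rfl⟩ := QuotientGroup.mk_surjective q
    obtain ⟨a, ha⟩ := exists_two_pow g
    exact ⟨a, (QuotientGroup.eq_one_iff (g ^ 2 ^ a)).2 (ho _ ha)⟩
  obtain ⟨n, hn⟩ := IsPGroup.iff_card.1 h1
  have h2 : (K ⊔ T).index ∣ 2 ^ n := by
    rw [← hn]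
    exact index_dvd_of_le le_sup_left
  obtain ⟨k, -, hk⟩ := (Nat.dvd_prime_pow Nat.prime_two).1 h2
  have hk0 : k = 0 := by
    by_contra h0
    exact syl (((dvd_pow_self 2 h0).trans (dvd_of_eq hk.symm)).trans (index_dvd_of_le le_sup_right))
  rw [← index_eq_one, hk, hk0, pow_zero]

/-- `O²(X) ≤ K` if `X = K T` -/
theorem mem_of_odd [Finite X] {T K : Subgroup X} (hK : K.Normal) (two : IsPGroup 2 T) (h : K ⊔ T = ⊤) {g : X}
    (hg : Odd (orderOf g)) : g ∈ K := by
  have h0 : g ∈ K ⊔ T := h ▸ mem_top g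
  obtain ⟨k, hk, t, ht, rfl⟩ := mem_sup_of_normal_left.1 h0
  obtain ⟨n, hn⟩ := two ⟨t, ht⟩
  have h1 : t ^ 2 ^ n = 1 := congrArg Subtype.val hn
  have e : ((k * t : X) : X ⧸ K) = (t : X ⧸ K) := by
    rw [QuotientGroup.mk_mul, (QuotientGroup.eq_one_iff k).2 hk, one_mul]
  have h2 : orderOf ((k * t : X) : X ⧸ K) ∣ 2 ^ n := by
    rw [e]
    apply orderOf_dvd_of_pow_eq_one
    rw [← QuotientGroup.mk_pow, h1, QuotientGroup.mk_one]
  have h3 : orderOf ((k * t : X) : X ⧸ K) ∣ orderOf (k * t) := orderOf_map_dvd (QuotientGroup.mk' K) (k * t)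
  have h4 : Nat.Coprime (2 ^ n) (orderOf (k * t)) := (Nat.coprime_two_left.2 hg).pow_left n
  have h5 : orderOf ((k * t : X) : X ⧸ K) = 1 := Nat.eq_one_of_dvd_coprimes h4 h2 h3
  exact (QuotientGroup.eq_one_iff _).1 (orderOf_eq_one_iff.1 h5)

/-- the group generated by the elements of odd order -/
def od (X : Type*) [Group X] : Subgroup X := closure {g | Odd (orderOf g)}

theorem od_normal : (od X).Normal := by
  refine ⟨fun n hn g => ?_⟩
  have h1 : od X ≤ (od X).comap (MulAut.conj g).toMonoidHom := by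
    conv_lhs => rw [od]
    rw [closure_le]
    intro k hk
    refine subset_closure ?_
    change Odd (orderOf (MulAut.conj g k))
    rw [MulEquiv.orderOf_eq]
    exact hk
  exact h1 hn

theorem mem_od {g : X} (hg : Odd (orderOf g)) : g ∈ od X := subset_closure hg

/-- a vector which is fixed by `T` and by the elements of odd order -/
theorem fix_of_odd [Finite X] {T P : Subgroup X} (syl : ¬ 2 ∣ T.relIndex P) {α : Type*} [MulAction X α]
    {v : α} (hodd : ∀ g ∈ P, Odd (orderOf g) → g • v = v) (hT : ∀ t ∈ T, t • v = v) : ∀ g ∈ P, g • v = v := by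
  intro g hg
  have h1 : od P ⊔ T.subgroupOf P = ⊤ := sup_eq_top od_normal syl fun g hg => mem_od hg
  have h2 : od P ⊔ T.subgroupOf P ≤ (MulAction.stabilizer X v).subgroupOf P := by
    refine sup_le ?_ fun t ht => hT _ ht
    rw [od, closure_le]
    intro k hk
    exact hodd k k.2 (by rwa [orderOf_coe])
  rw [h1] at h2
  exact h2 (mem_top (⟨g, hg⟩ : P))

end odd

/-! ### An atom -/

section atom

variable {X : Type u} [Group X] [Finite X] {M : Type v} [Group M] [Finite M] [MulDistribMulAction X M]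
  {T A E : Subgroup X} {Y : Subgroup M} {x : M}

/-- a complement in an elementary abelian group -/
theorem exists_compl {A F : Subgroup X} (hel : ∀ a ∈ A, a * a = 1) :
    ∃ B : Subgroup X, B ≤ A ∧ F ⊓ B = ⊥ ∧ ∀ a ∈ A, ∃ b ∈ B, ∃ f ∈ F, a = b * f := by
  have hfin : {B : Subgroup X | B ≤ A ∧ F ⊓ B = ⊥}.Finite := Set.toFinite _
  obtain ⟨B, hB⟩ := hfin.exists_maximal ⟨⊥, bot_le, inf_bot_eq _⟩
  obtain ⟨hBA, hBF⟩ := hB.prop
  refine ⟨B, hBA, hBF, fun a ha => ?_⟩
  have hcomm : ∀ a ∈ A, ∀ b ∈ A, a * b = b * a := by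
    intro a ha b hb
    have e : ∀ c ∈ A, c⁻¹ = c := fun c hc => inv_eq_of_mul_eq_one_right (hel c hc)
    rw [← e _ (A.mul_mem ha hb), mul_inv_rev, e a ha, e b hb]
  have hcB : ∀ b ∈ B, a * b = b * a := fun b hb => hcomm a ha b (hBA hb)
  by_cases h1 : F ⊓ adj B a (hel a ha) hcB = ⊥
  · have h2 : adj B a (hel a ha) hcB ≤ B := by
      refine hB.le_of_ge ⟨?_, h1⟩ fun b hb => Or.inl hb
      rintro g (hg | hg)
      · exact hBA hg
      · have h3 := A.mul_mem (hBA hg) ha
        rwa [mul_assoc, hel a ha, mul_one] at h3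
    exact ⟨a, h2 (Or.inr (by rw [hel a ha]; exact B.one_mem)), 1, F.one_mem, (mul_one a).symm⟩
  · obtain ⟨⟨f, hf⟩, hf1'⟩ := ne_bot_iff_exists_ne_one.1 h1
    have hf1 : f ≠ 1 := fun h2 => hf1' (Subtype.ext h2)
    obtain ⟨hfF, hfB | hfB⟩ := hf
    · exact absurd (mem_bot.1 (hBF ▸ (⟨hfF, hfB⟩ : f ∈ F ⊓ B))) hf1
    · refine ⟨_, B.inv_mem hfB, f, hfF, ?_⟩
      rw [mul_inv_rev, inv_mul_cancel_right]
      exact (inv_eq_of_mul_eq_one_right (hel a ha)).symm

theorem exists_atom (ml : MLK.{u, v}) (h : Pre T A E Y x) : ∃ B : Subgroup X, B ≤ A ∧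
    fxr X (⊤ : Subgroup M) ⊓ B = ⊥ ∧ B ≠ ⊥ ∧ (cv M (B : Set X)).index = Nat.card B ∧
    ∀ C : Subgroup X, C ≤ B → C ≠ ⊥ → C ≠ B → Nat.card C < (cv M (C : Set X)).index := by
  set F := fxr X (⊤ : Subgroup M) with hF
  have hno : ∀ C : Subgroup X, C ≤ A → F ⊓ C = ⊥ → Nat.card C ≤ (cv M (C : Set X)).index := by
    intro C hC hCF
    have h1 := no ml h.KX h.sq h.two h.syl h.fx h.gen (A := C) (fun a ha => h.el a (hC ha)) (hC.trans h.Ax)
    rwa [← hF, ← inf_relIndex_right, hCF, relIndex_bot_left] at h1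
  obtain ⟨B, hBA, hBF, hAB⟩ := exists_compl (F := F) h.el
  have hrel : F.relIndex A ≤ Nat.card B := by
    rw [← relIndex_bot_left, ← hBF, inf_relIndex_right]
    have h1 : A ≤ B ⊔ F := fun a ha => by
      obtain ⟨b, hb, f, hf, rfl⟩ := hAB a ha
      exact mul_mem (mem_sup_left hb) (mem_sup_right hf)
    have hn : F.Normal := fxr_normal fun _ _ _ => mem_top _
    rw [← relIndex_sup_right (K := F) (H := B)]
    exact relIndex_le_of_le_right h1 (relIndex_ne _ _)
  have hBe : (cv M (B : Set X)).index = Nat.card B := by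
    refine le_antisymm ?_ (hno B hBA hBF)
    have h1 : (cv M (B : Set X)).index ≤ (cv M (A : Set X)).index :=
      index_antitone (cv_anti (SetLike.coe_subset_coe.2 hBA))
    exact h1.trans (h.exact.trans hrel)
  have hB1 : B ≠ ⊥ := by
    rintro rfl
    obtain ⟨a, ha, m, ham⟩ := h.mv
    obtain ⟨b, hb, f, hf, rfl⟩ := hAB a ha
    rw [mem_bot.1 hb, one_mul] at ham
    exact ham (hf m (mem_top m))
  have hfin : {C : Subgroup X | C ≤ B ∧ C ≠ ⊥ ∧ (cv M (C : Set X)).index = Nat.card C}.Finite := Set.toFinite _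
  obtain ⟨C, hC⟩ := hfin.exists_minimal ⟨B, le_rfl, hB1, hBe⟩
  obtain ⟨hCB, hC1, hCe⟩ := hC.prop
  have hb : ∀ D : Subgroup X, D ≤ B → F ⊓ D = ⊥ := fun D hD =>
    le_bot_iff.1 ((inf_le_inf_left F hD).trans hBF.le)
  refine ⟨C, hCB.trans hBA, hb C hCB, hC1, hCe, fun D hD hD1 hDC => ?_⟩
  refine lt_of_le_of_ne (hno D (hD.trans (hCB.trans hBA)) (hb D (hD.trans hCB))) fun h1 => hDC ?_
  exact le_antisymm hD (hC.le_of_le ⟨hD.trans hCB, hD1, h1.symm⟩ hD)

end atom

/-! ### The middle -/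

/-- the situation in `X₀` -/
structure Mid {X : Type u} [Group X] {M : Type v} [Group M] [MulDistribMulAction X M] (T A : Subgroup X)
    (Y : Subgroup M) (x : M) : Prop where
  ml : MLK.{u, v}
  sq : ∀ m : M, m * m = 1
  two : IsPGroup 2 T
  syl : ¬ 2 ∣ T.index
  fx : ∀ t ∈ T, t • x = x
  tY : ∀ t ∈ T, ∀ w ∈ Y, t • w ∈ Y
  mN : (∃ g ∈ normalizer (T : Set X), g • x ≠ x) →
    ∀ g ∈ normalizer (T : Set X), Odd (orderOf g) → ∀ w ∈ Y, g • w = w
  mP : ∀ P : Subgroup X, IsMinPar T P → (∃ p ∈ P, p • x ≠ x) → ∀ p ∈ P, Odd (orderOf p) → ∀ w ∈ Y, p • w = w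
  mY : ∃ g : X, Odd (orderOf g) ∧ ∃ w ∈ Y, g • w ≠ w
  mx : ∃ g : X, g • x ≠ x
  AT : A ≤ T
  A1 : A ≠ ⊥
  el : ∀ a ∈ A, a * a = 1
  low : ∀ R : Subgroup X, T ≤ R → R ≠ ⊤ → A ≤ o2 R
  fU : A ⊓ fxr X (orb (⊤ : Subgroup X) x) = ⊥
  le : (cv M (A : Set X)).index ≤ Nat.card A
  KX : IsKGroup X

section mid

variable {X : Type u} [Group X] [Finite X] {M : Type v} [Group M] [Finite M] [MulDistribMulAction X M]
  {T A E : Subgroup X} {Y : Subgroup M} {x : M}

omit [Finite X] [Finite M] in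
theorem cv_map {R : Subgroup X} (C : Subgroup R) :
    cv M ((C.map R.subtype : Subgroup X) : Set X) = cv M (C : Set R) := by
  ext m
  constructor
  · exact fun h c hc => h c ⟨c, hc, rfl⟩
  · rintro h _ ⟨c, hc, rfl⟩
    exact h c hc

omit [Finite X] in
/-- `O₂(L) ∩ R ≤ O₂(R)` for `R ≤ L` -/
theorem o2_inf_self {L R : Subgroup X} (h : R ≤ L) : o2 L ⊓ R ≤ o2 R :=
  o2_inf_le le_rfl (fun _ hg _ hx => R.mul_mem (R.mul_mem hg hx) (R.inv_mem hg)) h

theorem exists_mid (ml : MLK.{u, v}) (h : Pre T A E Y x) : ∃ (R B : Subgroup X), T ≤ R ∧ B ≤ A ∧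
    Mid (X := R) (T.subgroupOf R) (B.subgroupOf R) Y x := by
  obtain ⟨B, hBA, hBF, hB1, hBe, hBa⟩ := exists_atom ml h
  have hTs : T ≤ MulAction.stabilizer X x := fun t ht => h.fx t ht
  have hAT : A ≤ T := h.Ax.trans (o2_le_of_sylow h.two fun h2 => h.syl (h2.trans (relIndex_dvd_index_of_le hTs)))
  have hBT : B ≤ T := hBA.trans hAT
  have hfin : {R : Subgroup X | T ≤ R ∧ ¬ B ≤ fxr X (orb R x)}.Finite := Set.toFinite _
  obtain ⟨R, hR⟩ := hfin.exists_minimal ⟨⊤, le_top, fun h1 => hB1 (by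
    rw [h.gen] at h1
    rw [← hBF]
    exact (inf_eq_right.2 h1).symm)⟩
  obtain ⟨hTR, hRm⟩ := hR.prop
  have hBR : B ≤ R := hBT.trans hTR
  -- (a)
  have hlow : ∀ S : Subgroup X, T ≤ S → S ≤ R → S ≠ R → B ≤ o2 S := by
    intro S hTS hSR hne
    have h1 : B ≤ fxr X (orb S x) := by
      by_contra h2
      exact hne (le_antisymm hSR (hR.le_of_le ⟨hTS, h2⟩ hSR))
    have h2 : B ≤ o2 (MulAction.stabilizer X x) ⊓ (S ⊓ fxr X (orb S x)) :=
      le_inf (hBA.trans h.Ax) (le_inf (hBT.trans hTS) h1)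
    refine h2.trans (o2_inf_le inf_le_left (fun g hg k hk => ⟨S.mul_mem (S.mul_mem hg hk.1) (S.inv_mem hg),
      conj_mem_fxr (fun _ hg _ hm => smul_mem_orb hg hm) hg hk.2⟩) fun g hg => ?_)
    exact hg.2 x (mem_orb_self S x)
  have hfxr : ∀ b : R, b ∈ fxr R (orb (⊤ : Subgroup R) x) ↔ (b : X) ∈ fxr X (orb R x) := by
    intro b
    rw [mem_fxr_orb, mem_fxr_orb]
    exact ⟨fun h1 g hg => h1 ⟨g, hg⟩ (mem_top _), fun h1 g _ => h1 g g.2⟩
  have hnorm : ∀ g ∈ normalizer (T.subgroupOf R : Set R), (g : X) ∈ normalizer (T : Set X) := by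
    intro g hg
    have h1 : (normalizer (T.subgroupOf R : Set R)).map R.subtype ≤ normalizer (T : Set X) := by
      refine le_normalizer_of ?_
      rintro _ ⟨n, hn, rfl⟩ t ht
      exact (mem_normalizer_iff.1 hn ⟨t, hTR ht⟩).1 ht
    exact h1 ⟨g, hg, rfl⟩
  have eB : (B.subgroupOf R).map R.subtype = B := by rw [subgroupOf_map_subtype, inf_eq_left.2 hBR]
  have hcardB : Nat.card (B.subgroupOf R) = Nat.card B := Nat.card_congr (subgroupOfEquivOfLe hBR).toEquiv
  have hcvB : cv M ((B.subgroupOf R : Subgroup R) : Set R) = cv M (B : Set X) := by rw [← cv_map, eB]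
  refine ⟨R, B, hTR, hBA, ?_⟩
  refine
    { ml := ml
      sq := h.sq
      two := h.two.comap_of_injective _ R.subtype_injective
      syl := fun h2 => h.syl (h2.trans (relIndex_dvd_index_of_le hTR))
      fx := fun t ht => h.fx t ht
      tY := fun t ht => h.tY t ht
      mN := ?_
      mP := ?_
      mY := ?_
      mx := ?_
      AT := fun b hb => hBT hb
      A1 := fun h1 => hB1 (by rw [← eB, h1, Subgroup.map_bot])
      el := fun a ha => Subtype.ext (h.el _ (hBA ha))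
      low := ?_
      fU := ?_
      le := by rw [hcvB, hcardB, hBe]
      KX := sec_KG.sub X h.KX R }
  · rintro ⟨g, hg, hgx⟩ k hk hodd w hw
    exact h.mN ⟨g, hnorm g hg, hgx⟩ k (hnorm k hk) (by rwa [orderOf_coe]) w hw
  · rintro P hP ⟨p, hp, hpx⟩ k hk hodd w hw
    exact h.mP (P.map R.subtype) (minPar_map_subtype hTR hP) ⟨p, ⟨p, hp, rfl⟩, hpx⟩ k ⟨k, hk, rfl⟩
      (by rwa [orderOf_coe]) w hw
  · by_contra hc
    push Not at hc
    apply hRm
    intro b hb
    rw [mem_fxr_orb]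
    intro g hg
    have h1 : od R ⊔ T.subgroupOf R = ⊤ := sup_eq_top od_normal
      (fun h2 => h.syl (h2.trans (relIndex_dvd_index_of_le hTR))) fun g hg => mem_od hg
    have h2 : (⟨g, hg⟩ : R) ∈ od R ⊔ T.subgroupOf R := h1 ▸ mem_top _
    have hn : (od R).Normal := od_normal
    obtain ⟨k, hk, t, ht, hkt⟩ := mem_sup_of_normal_left.1 h2
    have h3 : od R ≤ E.subgroupOf R := by
      rw [od, closure_le]
      intro k hk
      exact h.cY k (by rwa [orderOf_coe]) fun w hw => hc k hk w hw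
    have h4 : g = (k : X) * t := congrArg Subtype.val hkt.symm
    rw [h4, mul_smul, h.fx t ht]
    exact h.cE b (hBA hb) k (h3 hk)
  · by_contra hc
    push Not at hc
    apply hRm
    intro b hb
    rw [mem_fxr_orb]
    intro g hg
    have h1 : g • x = x := hc ⟨g, hg⟩
    rw [h1, h.fx b (hBT hb)]
  · intro S hTS hS
    have h1 : S.map R.subtype ≠ R := by
      intro h2
      apply hS
      rw [eq_top_iff]
      intro r _
      have h3 : (r : X) ∈ S.map R.subtype := by rw [h2]; exact r.2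
      obtain ⟨s, hs, hsr⟩ := h3
      rwa [← (Subtype.ext hsr : s = r)]
    have h2 : T ≤ S.map R.subtype := fun t ht => ⟨⟨t, hTR ht⟩, hTS ht, rfl⟩
    have h3 := hlow _ h2 (map_subtype_le S) h1
    exact le_trans (fun a ha => h3 ha) (o2_subgroupOf_le S)
  · set B' := B.subgroupOf R with hB'
    set U := orb (⊤ : Subgroup R) x with hU
    set F := fxr R U with hF
    have hBx : B' ≤ o2 (MulAction.stabilizer R x) := by
      have h1 : B ≤ o2 ((MulAction.stabilizer R x).map R.subtype) := by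
        have h2 : (MulAction.stabilizer R x).map R.subtype ≤ MulAction.stabilizer X x := by
          rintro _ ⟨g, hg, rfl⟩
          exact hg
        refine (le_inf (hBA.trans h.Ax) fun b hb => ?_).trans (o2_inf_self h2)
        exact ⟨⟨b, hBR hb⟩, h.fx b (hBT hb), rfl⟩
      exact le_trans (fun b hb => h1 hb) (o2_subgroupOf_le _)
    have hno := no_orb (H := R) (M := M) (T := T.subgroupOf R) (A := B') (x := x) ml (sec_KG.sub X h.KX R) h.sq
      (h.two.comap_of_injective _ R.subtype_injective)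
      (fun h2 => h.syl (h2.trans (relIndex_dvd_index_of_le hTR))) (fun t ht => h.fx t ht)
      (fun a ha => Subtype.ext (h.el _ (hBA ha))) hBx
    rw [← hU, ← hF] at hno
    set B₀ := B' ⊓ F with hB₀
    have h1 : F.relIndex B' * Nat.card B₀ = Nat.card B' := by
      rw [ML.CD.card_eq_relIndex_mul (inf_le_left : B' ⊓ F ≤ B'), hB₀, inf_relIndex_left]
    have hUB : U ≤ cv M (B₀ : Set R) := cv_inf_eq_iff.2 inf_le_right
    have hAB : cv M (B' : Set R) ≤ cv M (B₀ : Set R) := cv_anti (SetLike.coe_subset_coe.2 inf_le_left)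
    have h2 : (cv M (B' : Set R)).relIndex (cv M (B₀ : Set R)) * (cv M (B₀ : Set R)).index = Nat.card B' := by
      rw [relIndex_mul_index hAB, hcvB, hcardB, hBe]
    have h3 : (cv M (B' : Set R)).relIndex U ≤ (cv M (B' : Set R)).relIndex (cv M (B₀ : Set R)) :=
      relIndex_le_of_le_right hUB (relIndex_ne _ _)
    by_contra hne
    have h4 : Nat.card B₀ < (cv M (B₀ : Set R)).index := by
      have h5 := hBa (B₀.map R.subtype) (by rw [← eB]; exact map_mono inf_le_left)
        (fun h6 => hne ((map_eq_bot_iff_of_injective _ R.subtype_injective).1 h6)) (fun h6 => hRm fun b hb => by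
          rw [← h6] at hb
          obtain ⟨c, hc, rfl⟩ := hb
          exact (hfxr c).1 hc.2)
      rwa [cv_map, card_map_of_injective R.subtype_injective] at h5
    have h5 : 0 < F.relIndex B' := Nat.pos_of_ne_zero (relIndex_ne _ _)
    have h6 : F.relIndex B' * Nat.card B₀ < (cv M (B' : Set R)).relIndex (cv M (B₀ : Set R)) *
        (cv M (B₀ : Set R)).index := by
      calc F.relIndex B' * Nat.card B₀ < F.relIndex B' * (cv M (B₀ : Set R)).index :=
            Nat.mul_lt_mul_of_pos_left h4 h5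
        _ ≤ _ := Nat.mul_le_mul_right _ (hno.trans h3)
    rw [h1, h2] at h6
    exact absurd h6 (lt_irrefl _)

end mid

/-! ### The quotient `N = M / C_M(O²(X))` -/

/-- `p : M → N = M / C_M(O²(X))` -/
structure Qt {X : Type u} [Group X] {M : Type v} [Group M] [MulDistribMulAction X M] {N : Type v} [Group N]
    [MulDistribMulAction X N] (p : M →* N) : Prop where
  surj : Function.Surjective p
  eq : ∀ (g : X) (m : M), p (g • m) = g • p m
  ker : ∀ m : M, p m = 1 → ∀ g : X, Odd (orderOf g) → g • m = m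
  nf : ∀ n : N, (∀ g : X, Odd (orderOf g) → g • n = n) → n = 1

namespace Mid

variable {X : Type u} [Group X] [Finite X] {M : Type v} [Group M] [Finite M] [MulDistribMulAction X M]
  {T A E : Subgroup X} {Y : Subgroup M} {x : M} {N : Type v} [Group N] [MulDistribMulAction X N] {p : M →* N}

omit [Finite M] in
/-- `O₂(X)` centralises `⟨x^X⟩` -/
theorem o2_top_le (h : Mid T A Y x) : o2 (⊤ : Subgroup X) ≤ fxr X (orb (⊤ : Subgroup X) x) := by
  have h1 : o2 (⊤ : Subgroup X) ≤ T := o2_le_of_sylow h.two (by rw [relIndex_top_right]; exact h.syl)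
  intro q hq
  rw [mem_fxr_orb]
  intro g _
  have h2 : g⁻¹ * q * g ∈ o2 (⊤ : Subgroup X) := by
    have := conj_mem_of_le (le_normalizer_o2 (⊤ : Subgroup X)) (mem_top g⁻¹) hq
    rwa [inv_inv] at this
  have h3 := h.fx _ (h1 h2)
  calc q • g • x = g • (g⁻¹ * q * g) • x := by rw [← mul_smul, ← mul_smul]; congr 1; group
    _ = g • x := by rw [h3]

omit [Finite M] in
theorem eq_bot_of_le (h : Mid T A Y x) {B : Subgroup X} (hB : B ≤ A) (h2 : B ≤ o2 (⊤ : Subgroup X)) : B = ⊥ :=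
  le_bot_iff.1 ((le_inf hB (h2.trans h.o2_top_le)).trans h.fU.le)

omit [Finite M] in
/-- `X = K₀ T` -/
theorem sup_top (h : Mid T A Y x) : normalClosure (A : Set X) ⊔ T = ⊤ := by
  by_contra hne
  have h1 := h.low _ le_sup_right hne
  have h2 : A ≤ o2 (normalClosure (A : Set X) ⊔ T) ⊓ normalClosure (A : Set X) := le_inf h1 subset_normalClosure
  exact h.A1 (h.eq_bot_of_le le_rfl (h2.trans (o2_inf_le le_top
    (fun g _ k hk => normalClosure_normal.conj_mem k hk g) le_sup_left)))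

omit [Finite X] [Finite M] in
theorem sqN (h : Mid T A Y x) (D : Qt (X := X) p) (n : N) : n * n = 1 := by
  obtain ⟨m, rfl⟩ := D.surj n
  rw [← map_mul, h.sq, map_one]

/-- **`A` is faithful and exact on `⟨n^X⟩`** for every `T`-fixed `n ≠ 1` -/
theorem exact (h : Mid T A Y x) (D : Qt (X := X) p) {n : N} (hn : n ≠ 1) (hT : ∀ t ∈ T, t • n = n) :
    A ⊓ fxr X (orb (⊤ : Subgroup X) n) = ⊥ ∧
      (cv N (A : Set X)).relIndex (orb (⊤ : Subgroup X) n) = Nat.card A ∧
      orb (⊤ : Subgroup X) n ⊔ cv N (A : Set X) = ⊤ := by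
  have hfN : Finite N := Finite.of_surjective p D.surj
  set O := orb (⊤ : Subgroup X) n with hO
  have hst : MulAction.stabilizer X n ≠ ⊤ := fun h1 => hn (D.nf n fun g _ => (h1 ▸ mem_top g :
    g ∈ MulAction.stabilizer X n))
  have hA := h.low _ (fun t ht => hT t ht : T ≤ MulAction.stabilizer X n) hst
  have hinv : ∀ g : X, ∀ m ∈ O, g • m ∈ O := fun g m hm => smul_mem_orb (mem_top g) hm
  have hbot : A ⊓ fxr X O = ⊥ := by
    refine h.eq_bot_of_le inf_le_left ((inf_le_inf_right _ hA).trans (o2_inf_le le_top ?_ ?_))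
    · exact fun g _ k hk => (fxr_normal hinv).conj_mem k hk g
    · exact fun g hg => hg n (mem_orb_self _ n)
  have hno := no_orb h.ml h.KX (h.sqN D) h.two h.syl hT h.el hA
  rw [← hO, ← inf_relIndex_right, inf_comm, hbot, relIndex_bot_left] at hno
  have h1 : (cv N (A : Set X)).index ≤ (cv M (A : Set X)).index := by
    rw [← index_comap_of_surjective _ D.surj]
    refine index_antitone fun m hm a ha => ?_
    rw [← D.eq, hm a ha]
  have h2 : (cv N (A : Set X)).relIndex O ≤ (cv N (A : Set X)).index := by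
    rw [← relIndex_top_right]
    exact relIndex_le_of_le_right le_top (relIndex_ne _ _)
  have h3 := h.le
  refine ⟨hbot, by omega, ?_⟩
  have hcomm := comm_of_sq (h.sqN D)
  have hnor : (cv N (A : Set X)).Normal := ⟨fun m hm g => by rwa [hcomm g m, mul_inv_cancel_right]⟩
  have h7 : (cv N (A : Set X)).relIndex (O ⊔ cv N (A : Set X)) * (O ⊔ cv N (A : Set X)).index =
      (cv N (A : Set X)).index := relIndex_mul_index le_sup_right
  rw [relIndex_sup_right] at h7
  have h8 : 0 < Nat.card A := Nat.card_pos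
  have h9 : (cv N (A : Set X)).relIndex O = Nat.card A := by omega
  have h10 : (cv N (A : Set X)).index = Nat.card A := by omega
  rw [h9, h10] at h7
  rw [← index_eq_one]
  exact Nat.eq_of_mul_eq_mul_left h8 (h7.trans (mul_one _).symm)

/-- **all `T`-fixed vectors are in `⟨n^X⟩`** -/
theorem mem_orb (h : Mid T A Y x) (D : Qt (X := X) p) {n n' : N} (hn : n ≠ 1) (hT : ∀ t ∈ T, t • n = n)
    (hT' : ∀ t ∈ T, t • n' = n') : n' ∈ orb (⊤ : Subgroup X) n := by
  have hfN : Finite N := Finite.of_surjective p D.surj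
  set O := orb (⊤ : Subgroup X) n with hO
  have hcomm := comm_of_sq (h.sqN D)
  have hinv : ∀ g : X, ∀ m ∈ O, g • m ∈ O := fun g m hm => smul_mem_orb (mem_top g) hm
  have hOn : O.Normal := ⟨fun m hm g => by rwa [hcomm g m, mul_inv_cancel_right]⟩
  have hcn : (cv N (A : Set X)).Normal := ⟨fun m hm g => by rwa [hcomm g m, mul_inv_cancel_right]⟩
  let _ := modAct O hinv
  have hK : normalClosure (A : Set X) ≤ fxr X (⊤ : Subgroup (N ⧸ O)) := by
    have hF : (fxr X (⊤ : Subgroup (N ⧸ O))).Normal := fxr_normal fun _ _ _ => mem_top _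
    refine normalClosure_le_normal fun a ha m' _ => ?_
    obtain ⟨m, rfl⟩ := QuotientGroup.mk_surjective m'
    have h1 : m ∈ O ⊔ cv N (A : Set X) := by rw [(h.exact D hn hT).2.2]; exact mem_top _
    obtain ⟨u, hu, c, hc, rfl⟩ := mem_sup_of_normal_right.1 h1
    have e : ((u * c : N) : N ⧸ O) = (c : N ⧸ O) := by
      rw [QuotientGroup.mk_mul, (QuotientGroup.eq_one_iff u).2 hu, one_mul]
    rw [e]
    exact congrArg (QuotientGroup.mk : N → N ⧸ O) (hc a ha)
  have hfix : ∀ g : X, g • n' * n' ∈ O := by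
    intro g
    have h0 : g ∈ normalClosure (A : Set X) ⊔ T := by rw [h.sup_top]; exact mem_top g
    obtain ⟨k, hk, t, ht, rfl⟩ := mem_sup_of_normal_left.1 h0
    rw [mul_smul, hT' t ht]
    have h1 : ((k • n' : N) : N ⧸ O) = (n' : N ⧸ O) := hK hk (n' : N ⧸ O) (mem_top _)
    rw [← QuotientGroup.eq_one_iff, QuotientGroup.mk_mul, h1, ← QuotientGroup.mk_mul, h.sqN D, QuotientGroup.mk_one]
  obtain ⟨z, hz, hz2⟩ := exists_fixed_mod (h.sqN D) h.syl hT' hfix
  rwa [D.nf z fun g _ => hz g, mul_one] at hz2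

omit [Finite M] in
/-- a mover of `x` -/
theorem exists_mover (h : Mid T A Y x) : ∃ P : Subgroup X, T ≤ P ∧ (∃ p ∈ P, p • x ≠ x) ∧
    ∀ g ∈ P, Odd (orderOf g) → ∀ w ∈ Y, g • w = w := by
  by_cases h1 : ∃ g ∈ normalizer (T : Set X), g • x ≠ x
  · exact ⟨_, le_normalizer, h1, h.mN h1⟩
  by_contra hc
  push Not at hc h1
  obtain ⟨g, hg⟩ := h.mx
  have h2 : (⊤ : Subgroup X) ≤ MulAction.stabilizer X x := by
    refine le_of_forall le_top (fun n hn => h1 n hn.2) fun P hP _ => ?_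
    by_contra h3
    obtain ⟨p, hp, hpx⟩ : ∃ p ∈ P, p • x ≠ x := by
      by_contra h4
      push Not at h4
      exact h3 fun p hp => h4 p hp
    obtain ⟨k, hk, hodd, w, hw, hkw⟩ := hc P hP.le ⟨p, hp, hpx⟩
    exact hkw (h.mP P hP ⟨p, hp, hpx⟩ k hk hodd w hw)
  exact hg (h2 (mem_top g))

omit [Finite X] [Finite M] in
theorem rel_ndvd (h : Mid T A Y x) {P : Subgroup X} (hP : T ≤ P) : ¬ 2 ∣ T.relIndex P := fun h2 =>
  h.syl (h2.trans (relIndex_dvd_index_of_le hP))

omit [Finite M] in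
/-- `p(x) ≠ 1` -/
theorem px_ne (h : Mid T A Y x) (D : Qt (X := X) p) : p x ≠ 1 := by
  intro h1
  obtain ⟨g, hg⟩ := h.mx
  exact hg (fix_of_odd (P := ⊤) (h.rel_ndvd le_top) (fun k _ hk => D.ker x h1 k hk) h.fx g (mem_top g))

omit [Finite X] in
/-- `p(y) ≠ 1` is `T`-fixed for some `y ∈ Y` -/
theorem exists_y (h : Mid T A Y x) (D : Qt (X := X) p) : ∃ y ∈ Y, p y ≠ 1 ∧ ∀ t ∈ T, t • p y = p y := by
  have hfN : Finite N := Finite.of_surjective p D.surj
  obtain ⟨g, hg, w, hw, hgw⟩ := h.mY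
  have h1 : Y.map p ≠ ⊥ := fun h2 => hgw (D.ker w (mem_bot.1 (h2 ▸ mem_map_of_mem p hw)) g hg)
  obtain ⟨_, ⟨y, hy, rfl⟩, hy1, hyT⟩ := exists_fixed (h.sqN D) h.two h1 (by
    rintro t ht _ ⟨w, hw, rfl⟩
    exact ⟨t • w, h.tY t ht w hw, D.eq t w⟩)
  exact ⟨y, hy, hy1, hyT⟩

/-- **the output** -/
theorem out_of (h : Mid T A Y x) (D : Qt (X := X) p) {H : Type u} [Group H] {N' : Type v} [Group N']
    [MulDistribMulAction H N'] {f : X →* H} (hf : Function.Surjective f) {e : N' →* N} (he : Function.Injective e)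
    (heq : ∀ (g : X) (n : N'), e (f g • n) = g • e n) (hr : e.range = orb (⊤ : Subgroup X) (p x))
    (hfaith : ∀ g : H, (∀ n : N', g • n = n) → g = 1) {x' y' : N'} (hx : e x' = p x) {y : M} (hyY : y ∈ Y)
    (hy : e y' = p y) (hy1 : p y ≠ 1) (hyT : ∀ t ∈ T, t • p y = p y) :
    ∃ A' : Subgroup H, A' ≤ A.map f ∧ Out (T.map f) A' x' y' := by
  have hfN : Finite N := Finite.of_surjective p D.surj
  have hfN' : Finite N' := Finite.of_injective e he
  have hfH : Finite H := Finite.of_surjective f hf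
  have hfix : ∀ (g : X) (n : N'), f g • n = n ↔ g • e n = e n := fun g n => by rw [← heq, he.eq_iff]
  have sq' : ∀ n : N', n * n = 1 := fun n => he (by rw [map_mul, h.sqN D, map_one])
  have hcomm := comm_of_sq sq'
  have x1 : x' ≠ 1 := fun h1 => h.px_ne D (by rw [← hx, h1, map_one])
  have y1 : y' ≠ 1 := fun h1 => hy1 (by rw [← hy, h1, map_one])
  have fx' : ∀ t ∈ T.map f, t • x' = x' := by
    rintro _ ⟨t, ht, rfl⟩
    rw [hfix, hx, ← D.eq, h.fx t ht]
  have fy' : ∀ t ∈ T.map f, t • y' = y' := by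
    rintro _ ⟨t, ht, rfl⟩
    rw [hfix, hy, hyT t ht]
  have two' : IsPGroup 2 (T.map f) := h.two.map f
  have syl' : ¬ 2 ∣ (T.map f).index := fun h2 => h.syl (h2.trans (index_map_dvd T hf))
  -- movers of `x` fix `y`
  have hmv : ∀ P : Subgroup X, T ≤ P → (∀ g ∈ P, Odd (orderOf g) → ∀ w ∈ Y, g • w = w) → ∀ g ∈ P, f g • y' = y' := by
    intro P hTP hP g hg
    rw [hfix, hy]
    exact fix_of_odd (h.rel_ndvd hTP) (fun k hk hodd => by rw [← D.eq, hP k hk hodd y hyY]) hyT g hg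
  have hmx : ∀ g : X, f g • x' ≠ x' → g • x ≠ x := fun g h1 h2 => h1 (by rw [hfix, hx, ← D.eq, h2])
  have xy : x' ≠ y' := by
    intro h1
    obtain ⟨P, hTP, ⟨q, hq, hqx⟩, hP⟩ := h.exists_mover
    refine hqx (fix_of_odd (h.rel_ndvd hTP) (fun k hk hodd => ?_) h.fx q hq)
    have h2 : p (x * y⁻¹) = 1 := by rw [map_mul, map_inv, ← hx, ← hy, h1, mul_inv_cancel]
    have h3 := D.ker _ h2 k hodd
    rw [smul_mul', smul_inv', hP k hk hodd y hyY] at h3
    exact mul_right_cancel h3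
  -- no fixed vectors
  have nf' : ∀ n : N', (∀ g : H, g • n = n) → n = 1 := by
    intro n hn
    apply he
    rw [map_one]
    exact D.nf _ fun g _ => (hfix g n).1 (hn (f g))
  have st' : ∀ n : N', n ≠ 1 → MulAction.stabilizer H n ≠ ⊤ := fun n hn h1 => hn (nf' n fun g =>
    (h1 ▸ mem_top g : g ∈ MulAction.stabilizer H n))
  have irr' : ∀ W : Subgroup N', (∀ g : H, ∀ w ∈ W, g • w ∈ W) → W = ⊥ ∨ W = ⊤ := by
    intro W hW
    by_cases hW1 : W = ⊥
    · exact Or.inl hW1
    right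
    obtain ⟨w, hw, hw1, hwT⟩ := exists_fixed sq' two' hW1 fun t _ w hw => hW t w hw
    have h1 : p x ∈ orb (⊤ : Subgroup X) (e w) := by
      refine h.mem_orb D (fun h2 => hw1 (he (by rw [h2, map_one]))) (fun t ht => ?_) fun t ht => ?_
      · exact (hfix t w).1 (hwT _ (mem_map_of_mem f ht))
      · rw [← D.eq, h.fx t ht]
    have h2 : orb (⊤ : Subgroup X) (e w) ≤ W.map e := orb_le fun g _ => ⟨f g • w, hW _ w hw, heq g w⟩
    have h3 : e.range ≤ W.map e := by
      rw [hr]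
      exact orb_le fun g _ => h2 (smul_mem_orb (mem_top g) h1)
    rw [eq_top_iff]
    intro n _
    obtain ⟨w', hw', hww⟩ := h3 ⟨n, rfl⟩
    rwa [← he hww]
  have gen' : orb (⊤ : Subgroup H) x' = ⊤ := by
    rcases irr' (orb (⊤ : Subgroup H) x') fun g w hw => smul_mem_orb (mem_top g) hw with h1 | h1
    · exact absurd (mem_bot.1 (h1 ▸ mem_orb_self _ x')) x1
    · exact h1
  have fxr' : fxr H (⊤ : Subgroup N') = ⊥ := by
    rw [eq_bot_iff]
    intro k hk
    exact mem_bot.2 (hfaith k fun n => hk n (mem_top n))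
  have o2' : o2 (⊤ : Subgroup H) = ⊥ := by
    rw [eq_bot_iff, ← fxr', ← gen']
    have h1 : o2 (⊤ : Subgroup H) ≤ T.map f := o2_le_of_sylow two' (by rwa [relIndex_top_right])
    intro q hq
    rw [mem_fxr_orb]
    intro g _
    have h2 : g⁻¹ * q * g ∈ o2 (⊤ : Subgroup H) := by
      have := conj_mem_of_le (le_normalizer_o2 (⊤ : Subgroup H)) (mem_top g⁻¹) hq
      rwa [inv_inv] at this
    have h3 := fx' _ (h1 h2)
    calc q • g • x' = g • (g⁻¹ * q * g) • x' := by rw [← mul_smul, ← mul_smul]; congr 1; group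
      _ = g • x' := by rw [h3]
  -- `A` is exact
  obtain ⟨hA1, hA2, -⟩ := h.exact D (h.px_ne D) fun t ht => by rw [← D.eq, h.fx t ht]
  have hinj : ∀ a ∈ A, f a = 1 → a = 1 := by
    intro a ha h1
    have h2 : a ∈ A ⊓ fxr X (orb (⊤ : Subgroup X) (p x)) := by
      refine ⟨ha, fun m hm => ?_⟩
      rw [← hr] at hm
      obtain ⟨n, rfl⟩ := hm
      rw [← hfix, h1, one_smul]
    rw [hA1] at h2
    exact mem_bot.1 h2
  have hcard : Nat.card (A.map f) = Nat.card A := by
    refine (Nat.card_congr (Equiv.ofBijective (fun a : A => (⟨f a, mem_map_of_mem f a.2⟩ : A.map f)) ⟨?_, ?_⟩)).symm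
    · intro a b hab
      have h1 : f a = f b := congrArg Subtype.val hab
      have h2 := hinj _ (A.mul_mem a.2 (A.inv_mem b.2)) (by rw [map_mul, map_inv, h1, mul_inv_cancel])
      exact Subtype.ext (mul_inv_eq_one.1 h2)
    · rintro ⟨_, a, ha, rfl⟩
      exact ⟨⟨a, ha⟩, rfl⟩
  have hex : (cv N' ((A.map f : Subgroup H) : Set H)).index = Nat.card (A.map f) := by
    have h1 : (cv N (A : Set X)).comap e = cv N' ((A.map f : Subgroup H) : Set H) := by
      ext n
      constructor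
      · rintro h2 _ ⟨a, ha, rfl⟩
        exact (hfix a n).2 (h2 a ha)
      · intro h2 a ha
        exact (hfix a n).1 (h2 _ (mem_map_of_mem f ha))
    rw [← h1, index_comap, hr, hA2, hcard]
  have low' : ∀ R : Subgroup H, T.map f ≤ R → R ≠ ⊤ → A.map f ≤ o2 R := by
    intro R hTR hR
    have h1 : R.comap f ≠ ⊤ := fun h2 => hR (by rw [← map_comap_eq_self_of_surjective hf R, h2, map_top_of_surjective f hf])
    refine (map_mono (h.low _ (map_le_iff_le_comap.1 hTR) h1)).trans ((o2_map_le f _).trans ?_)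
    rw [map_comap_eq_self_of_surjective hf]
  have el' : ∀ a ∈ A.map f, a * a = 1 := by
    rintro _ ⟨a, ha, rfl⟩
    rw [← map_mul, h.el a ha, map_one]
  have KX' : IsKGroup H := kgroup_of_surj h.KX ⊤ (f.comp (⊤ : Subgroup X).subtype) fun q => by
    obtain ⟨g, rfl⟩ := hf q
    exact ⟨⟨g, mem_top g⟩, rfl⟩
  have no' : ∀ C : Subgroup H, C ≤ A.map f → Nat.card C ≤ (cv N' (C : Set H)).index := by
    intro C hC
    have h1 := no h.ml KX' sq' two' syl' fx' gen' (fun c hc => el' c (hC hc))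
      (hC.trans (low' _ (fun t ht => fx' t ht : T.map f ≤ MulAction.stabilizer H x') (st' x' x1)))
    rwa [fxr', relIndex_bot_left] at h1
  have hAf : A.map f ≠ ⊥ := fun h1 => h.A1 (by rw [← card_eq_one, ← hcard, h1, card_bot])
  -- the atom
  have hfin : {C : Subgroup H | C ≤ A.map f ∧ C ≠ ⊥ ∧ (cv N' (C : Set H)).index = Nat.card C}.Finite := Set.toFinite _
  obtain ⟨A', hA'⟩ := hfin.exists_minimal ⟨A.map f, le_rfl, hAf, hex⟩
  obtain ⟨hA'A, hA'1, hA'e⟩ := hA'.prop
  have hAT' : A' ≤ T.map f := hA'A.trans (map_mono h.AT)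
  have mN' : (∃ g ∈ normalizer ((T.map f : Subgroup H) : Set H), g • x' ≠ x') →
      ∀ g ∈ normalizer ((T.map f : Subgroup H) : Set H), g • y' = y' := by
    rintro ⟨g, hg, hgx⟩ k hk
    obtain ⟨t, ht, n, hn, rfl⟩ := exists_normalizer_map f hf h.two h.syl hg
    obtain ⟨t₂, ht₂, n₂, hn₂, rfl⟩ := exists_normalizer_map f hf h.two h.syl hk
    have h1 : f n • x' ≠ x' := fun h2 => hgx (by rw [mul_smul, h2, fx' t ht])
    rw [mul_smul, hmv _ le_normalizer (h.mN ⟨n, hn, hmx n h1⟩) n₂ hn₂, fy' t₂ ht₂]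
  have mP' : ∀ P : Subgroup H, IsMinPar (T.map f) P → (∃ q ∈ P, q • x' ≠ x') → ∀ q ∈ P, q • y' = y' := by
    rintro P' hP' ⟨q', hq', hqx⟩ r' hr'
    obtain ⟨P, hP, rfl⟩ := exists_minPar_map f hf hP'
    obtain ⟨q, hq, rfl⟩ := hq'
    obtain ⟨r, hr, rfl⟩ := hr'
    exact hmv P hP.le (h.mP P hP ⟨q, hq, hmx q hqx⟩) r hr
  -- the stabiliser of `x' y'`
  have hst : ∀ g : H, g • (x' * y') = x' * y' → g • x' = x' := by
    have h1 : MulAction.stabilizer H (x' * y') ≤ MulAction.stabilizer H x' := by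
      refine le_of_forall (S := T.map f) (fun t ht => ?_) (fun g hg => ?_) fun P hP hPS => ?_
      · change t • (x' * y') = x' * y'
        rw [smul_mul', fx' t ht, fy' t ht]
      · change g • x' = x'
        by_contra hc
        have h2 := mN' ⟨g, hg.2, hc⟩ g hg.2
        have h3 : g • (x' * y') = x' * y' := hg.1
        rw [smul_mul', h2] at h3
        exact hc (mul_right_cancel h3)
      · intro q hq
        by_contra hc
        have h2 := mP' P hP ⟨q, hq, hc⟩ q hq
        have h3 : q • (x' * y') = x' * y' := hPS hq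
        rw [smul_mul', h2] at h3
        exact hc (mul_right_cancel h3)
    exact fun g hg => h1 hg
  have four : 4 ≤ Nat.card A' := by
    have hp : IsPGroup 2 A' := two'.to_le hAT'
    obtain ⟨k, hk⟩ := IsPGroup.iff_card.1 hp
    have hk0 : k ≠ 0 := by
      rintro rfl
      rw [pow_zero] at hk
      exact hA'1 (card_eq_one.1 hk)
    by_cases hk1 : k = 1
    · exfalso
      subst hk1
      rw [pow_one] at hk
      obtain ⟨⟨t, ht⟩, ht1'⟩ := ne_bot_iff_exists_ne_one.1 hA'1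
      have ht1 : t ≠ 1 := fun h2 => ht1' (Subtype.ext h2)
      have htt := el' t (hA'A ht)
      have h1 : zpowers t = A' := by
        refine eq_of_le_of_card_ge (by rwa [zpowers_le]) ?_
        rw [hk, Nat.card_zpowers, orderOf_eq_prime (p := 2) (by rw [pow_two, htt]) ht1]
      have h2 : (cv N' ({t} : Set H)).index = 2 := by
        rw [QData.cv_singleton, h1, hA'e, hk]
      have h3 := TC.TT.not_trans (M := N') sq' hst (A := o2 (MulAction.stabilizer H x'))
        (B := o2 (MulAction.stabilizer H y')) (o2_isPGroup _) (o2_isPGroup _)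
        (fun g hg a ha => conj_mem_of_le (le_normalizer_o2 _) hg ha)
        (fun g hg a ha => conj_mem_of_le (le_normalizer_o2 _) hg ha)
        (low' _ (fun s hs => fx' s hs : T.map f ≤ MulAction.stabilizer H x') (st' x' x1) (hA'A ht))
        (low' _ (fun s hs => fy' s hs : T.map f ≤ MulAction.stabilizer H y') (st' y' y1) (hA'A ht)) htt (fun h3 => ht1 (by
          have h4 : t ∈ o2 (⊤ : Subgroup H) := by
            have h5 : pCore 2 H ≤ o2 (⊤ : Subgroup H) := le_o2 le_top (Lib.Cores.pCore_isPGroup 2)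
              (le_normalizer_of fun g _ n hn => (Lib.Cores.pCore_normal 2).conj_mem n hn g)
            exact h5 h3
          rw [o2'] at h4
          exact mem_bot.1 h4))
      omega
    · rw [hk]
      calc 4 = 2 ^ 2 := rfl
        _ ≤ 2 ^ k := Nat.pow_le_pow_right (by norm_num) (by omega)
  refine ⟨A', hA'A, ?_⟩
  exact
  { sq := sq'
    faith := hfaith
    irr := irr'
    two := two'
    syl := syl'
    x1 := x1
    y1 := y1
    xy := xy
    fx := fx'
    fy := fy'
    mN := mN'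
    mP := mP'
    AT := hAT'
    el := fun a ha => el' a (hA'A ha)
    four := four
    exact := hA'e
    atom := fun C hC hC1 hC2 => lt_of_le_of_ne (no' C (hC.trans hA'A)) fun h1 => hC2
      (le_antisymm hC (hA'.le_of_le ⟨hC.trans hA'A, hC1, h1.symm⟩ hC))
    low := fun R hTR hR => hA'A.trans (low' R hTR hR)
    nmax := by
      rintro ⟨K, hK, hmax⟩
      have h1 : IsMinPar (T.map f) (⊤ : Subgroup H) := by
        refine ⟨le_top, fun h2 => hA'1 ?_, K, lt_top_iff_ne_top.2 hK, fun L hL hL1 => hmax L hL hL1.ne⟩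
        have h3 : T.map f ≤ o2 (⊤ : Subgroup H) := le_o2 le_top two' h2
        exact le_bot_iff.1 (hAT'.trans (h3.trans o2'.le))
      obtain ⟨g, hg⟩ : ∃ g : H, g • x' ≠ x' := by
        by_contra hc
        push Not at hc
        exact x1 (nf' x' hc)
      exact y1 (nf' y' fun k => mP' ⊤ h1 ⟨g, mem_top g, hg⟩ k (mem_top k))
    KX := KX' }

end Mid

/-! ### The end -/

section main

variable {X : Type u} [Group X] [Finite X] {M : Type v} [Group M] [Finite M] [MulDistribMulAction X M]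
  {T A E : Subgroup X} {Y : Subgroup M} {x : M}

omit [Finite X] [Finite M] in
/-- `C_{M/W}(O²(X)) = 1` for `W = C_M(O²(X))` -/
theorem exists_qt (sq : ∀ m : M, m * m = 1) : ∃ (N : Type v) (_ : Group N) (_ : MulDistribMulAction X N)
    (p : M →* N), Qt (X := X) p := by
  have hcomm := comm_of_sq sq
  set W : Subgroup M := cv M {g : X | Odd (orderOf g)} with hW
  have hWn : W.Normal := ⟨fun m hm g => by rwa [hcomm g m, mul_inv_cancel_right]⟩
  have hinv : ∀ g : X, ∀ m ∈ W, g • m ∈ W := by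
    intro g m hm k hk
    have h1 : Odd (orderOf (g⁻¹ * k * g)) := by
      have e : g⁻¹ * k * g = MulAut.conj g⁻¹ k := by simp
      rw [e, MulEquiv.orderOf_eq]
      exact hk
    have h2 := hm _ h1
    calc k • g • m = g • (g⁻¹ * k * g) • m := by rw [← mul_smul, ← mul_smul]; congr 1; group
      _ = g • m := by rw [h2]
  refine ⟨M ⧸ W, inferInstance, modAct W hinv, QuotientGroup.mk' W, ?_⟩
  let _ := modAct W hinv
  refine ⟨QuotientGroup.mk'_surjective W, fun _ _ => rfl, fun m hm g hg => ?_, fun n hn => ?_⟩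
  · exact (QuotientGroup.eq_one_iff m).1 hm g hg
  · obtain ⟨m, rfl⟩ := QuotientGroup.mk_surjective n
    refine (QuotientGroup.eq_one_iff m).2 fun g hg => ?_
    have h1 : ((g • m : M) : M ⧸ W) = (m : M ⧸ W) := hn g hg
    set c : M := g • m * m with hc
    have hcW : c ∈ W := by
      rw [← QuotientGroup.eq_one_iff, hc, QuotientGroup.mk_mul, h1, ← QuotientGroup.mk_mul, sq, QuotientGroup.mk_one]
    have h2 : g • m = c * m := by rw [hc, mul_assoc, sq, mul_one]
    have h3 : ∀ k : ℕ, g ^ k • m = c ^ k * m := by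
      intro k
      induction k with
      | zero => simp
      | succ k ih =>
        rw [pow_succ', mul_smul, ih, smul_mul', smul_pow', hcW g hg, h2, ← mul_assoc, ← pow_succ]
    obtain ⟨k, hk⟩ := hg
    have h4 := h3 (orderOf g)
    rw [pow_orderOf_eq_one, one_smul, hk, pow_succ, pow_mul, pow_two, sq, one_pow, one_mul] at h4
    rw [h2]
    exact h4.symm

/-- **THEOREM KLF (3)** -/
theorem exists_out (ml : MLK.{u, v}) (h : Pre T A E Y x) :
    ∃ (R : Subgroup X) (H : Type u) (_ : Group H) (_ : Finite H) (N : Type v) (_ : Group N) (_ : Finite N)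
      (_ : MulDistribMulAction H N) (π : R →* H) (U : Subgroup M) (q : U →* N) (A' : Subgroup H) (y : M)
      (hx : x ∈ U) (hy : y ∈ U), T ≤ R ∧ y ∈ Y ∧ Sec R π U q ∧ A' ≤ KL.Mor.im π A ∧
        Out (KL.Mor.im π T) A' (q ⟨x, hx⟩) (q ⟨y, hy⟩) := by
  obtain ⟨R, B, hTR, hBA, hM⟩ := exists_mid ml h
  obtain ⟨N, _, _, p, D⟩ := exists_qt (X := R) h.sq
  have hfN : Finite N := Finite.of_surjective p D.surj
  obtain ⟨y, hyY, hy1, hyT⟩ := hM.exists_y D
  have hxT : ∀ t ∈ T.subgroupOf R, t • p x = p x := fun t ht => by rw [← D.eq, hM.fx t ht]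
  set O := orb (⊤ : Subgroup R) (p x) with hO
  have hxO : p x ∈ O := mem_orb_self _ _
  have hyO : p y ∈ O := hM.mem_orb D (hM.px_ne D) hxT hyT
  have hU : ∀ g : R, ∀ u ∈ O, g • u ∈ O := fun g u hu => smul_mem_orb (mem_top g) hu
  let _ := subAct (H := R) O hU
  let F : Subgroup R := fxr R (⊤ : Subgroup O)
  have hF : F.Normal := fxr_normal fun _ _ _ => mem_top _
  have htriv : ∀ n ∈ F, ∀ m : O, n • m = m := fun n hn m => hn m (mem_top m)
  let _ := quoAct F htriv
  obtain ⟨A', hA', hout⟩ := hM.out_of D (H := R ⧸ F) (N' := O) (f := QuotientGroup.mk' F) (e := O.subtype)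
    (x' := ⟨p x, hxO⟩) (y' := ⟨p y, hyO⟩) (y := y) (QuotientGroup.mk'_surjective F) O.subtype_injective
    (fun _ _ => rfl) O.range_subtype (by
      intro g hg
      obtain ⟨r, rfl⟩ := QuotientGroup.mk'_surjective F g
      exact (QuotientGroup.eq_one_iff r).2 fun m _ => hg m) rfl hyY rfl hy1 hyT
  refine ⟨R, R ⧸ F, inferInstance, inferInstance, O, inferInstance, inferInstance, inferInstance,
    QuotientGroup.mk' F, O.comap p, p.subgroupComap O, A', y, hxO, hyO, hTR, hyY, ?_, ?_, hout⟩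
  · exact ⟨QuotientGroup.mk'_surjective F, MonoidHom.subgroupComap_surjective_of_surjective p O D.surj,
      fun r hr u hu => by
        change p (r • u) ∈ O
        have h1 := D.eq ⟨r, hr⟩ u
        have h2 : p (r • u) = (⟨r, hr⟩ : R) • p u := h1
        rw [h2]
        exact hU _ _ hu,
      fun r u hru => Subtype.ext (D.eq r u)⟩
  · exact hA'.trans (map_mono fun b hb => hBA hb)

end main

end Cfsg.Agent.Omega.KLF.Low
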