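import Cfsg.Agent.Omega.KLF.Def
import Cfsg.Agent.Omega.KL.PlugG

/-!
# THEOREM KLF: the plug at group level (helper302; `Omega/KL/PlugG.lean` for `KLF.Def.Pre`)

`GPre T C N Z Y A E x` : `C` acts on `M := N / Z` (`N` elementary abelian, `Z ≤ N` centralised by `C`), `M = ⟨x̄ ^ C⟩`,
`T` a Sylow 2-subgroup of `C`, `C_C(x̄) = C_C(x) ≥ N_C(T)`, `Y ≤ N` normalised by `T`; every `T`-minimal `R ≤ C` which moves
`x` has `[Y, O²(R)] = 1`; the elements of odd order of `C_C(Y)` are in `E`, `A` centralises `x ^ E`; `A ≤ O₂(C_C(x))`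
elementary abelian, exact and non-trivial on `N`; `C` a K-group.

* **`GPre.pre`** : `KLF.Def.Pre` for `C` acting on `N / Z`.
-/

set_option autoImplicit false

namespace Cfsg.Agent.Omega.KLF.PlugG

open Subgroup Cfsg Cfsg.Agent.ZN
open Cfsg.Agent.ClassTwoFusion.Quad Cfsg.Agent.Omega.ML.MinFrame
open Cfsg.Agent.Omega.KL.PlugG (comm_of_sq minPar_map sub_o2)
open Cfsg.Agent.MinSimple.MinParabolic (IsMinPar)
open Cfsg.Agent.MinSimple.VModule (o2_isPGroup o2_le le_o2 le_normalizer_o2 o2_le_of_sylow)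

universe u

variable {G : Type u} [Group G]

/-- **The input of THEOREM KLF at group level** -/
structure GPre (T C N Z Y A E : Subgroup G) (x : G) : Prop where
  TC : T ≤ C
  two : IsPGroup 2 T
  syl : ¬ 2 ∣ T.relIndex C
  sq : ∀ n ∈ N, n * n = 1
  CN : C ≤ normalizer (N : Set G)
  ZN : Z ≤ N
  CZ : ∀ c ∈ C, ∀ z ∈ Z, c * z = z * c
  xN : x ∈ N
  gen : ∀ U : Subgroup G, x ∈ U → Z ≤ U → C ≤ normalizer (U : Set G) → N ≤ U
  stx : ∀ c ∈ C, c * x * c⁻¹ * x⁻¹ ∈ Z → c * x = x * c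
  nx : ∀ g ∈ C, g ∈ normalizer (T : Set G) → g * x = x * g
  YN : Y ≤ N
  TY : T ≤ normalizer (Y : Set G)
  uni : ∀ R : Subgroup G, IsMinPar T R → R ≤ C → (∃ r ∈ R, r * x ≠ x * r) →
    ∀ r ∈ R, Odd (orderOf r) → ∀ y ∈ Y, r * y = y * r
  cY : ∀ g ∈ C, Odd (orderOf g) → (∀ y ∈ Y, g * y = y * g) → g ∈ E
  cE : ∀ a ∈ A, ∀ k ∈ E, k ∈ C → a * (k * x * k⁻¹) = k * x * k⁻¹ * a
  el : ∀ a ∈ A, a * a = 1
  Ax : A ≤ o2 (C ⊓ centralizer ({x} : Set G))
  mv : ¬ A ≤ centralizer (N : Set G)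
  ex : (centralizer (A : Set G)).relIndex N ≤ (centralizer (N : Set G)).relIndex A
  KC : IsKGroup C

/-- an element `g` of odd order which centralises `z = [g, y]`, `z² = 1`, centralises `y` -/
theorem comm_of_odd {g y : G} (hg : Odd (orderOf g)) (hz : g * (g * y * g⁻¹ * y⁻¹) = g * y * g⁻¹ * y⁻¹ * g)
    (h2 : (g * y * g⁻¹ * y⁻¹) * (g * y * g⁻¹ * y⁻¹) = 1) : g * y = y * g := by
  set z := g * y * g⁻¹ * y⁻¹ with hzd
  have hy : g * y * g⁻¹ = z * y := by rw [hzd]; group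
  have key : ∀ n : ℕ, g ^ n * y * (g ^ n)⁻¹ = z ^ n * y := by
    intro n
    induction n with
    | zero => simp
    | succ n ih =>
      have hc : Commute g (z ^ n) := (show Commute g z from hz).pow_right n
      calc g ^ (n + 1) * y * (g ^ (n + 1))⁻¹ = g * (g ^ n * y * (g ^ n)⁻¹) * g⁻¹ := by rw [pow_succ']; group
        _ = g * z ^ n * y * g⁻¹ := by rw [ih]; group
        _ = z ^ n * (g * y * g⁻¹) := by rw [hc.eq]; group
        _ = z ^ (n + 1) * y := by rw [hy, pow_succ]; group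
  have h1 := key (orderOf g)
  rw [pow_orderOf_eq_one, one_mul, inv_one, mul_one] at h1
  have h3 : z ^ orderOf g = 1 := by
    have e : z ^ orderOf g * y = 1 * y := by rw [← h1, one_mul]
    exact mul_right_cancel e
  obtain ⟨k, hk⟩ := hg
  rw [hk, pow_succ, pow_mul, pow_two, h2, one_pow, one_mul] at h3
  have h4 : g * y * g⁻¹ = y := by rw [hy, h3, one_mul]
  calc g * y = g * y * g⁻¹ * g := by group
    _ = y * g := by rw [h4]

namespace GPre

variable [Finite G] {T C N Z Y A E : Subgroup G} {x : G} (h : GPre T C N Z Y A E x)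
include h

/-- **the input of THEOREM KLF** -/
theorem pre : ∃ (M : Type u) (_ : Group M) (_ : Finite M) (_ : MulDistribMulAction C M) (Y' : Subgroup M) (x' : M),
    KLF.Def.Pre (T.subgroupOf C) (A.subgroupOf C) (E.subgroupOf C) Y' x' := by
  have hCZc : ∀ c ∈ C, ∀ z ∈ Z, c * z * c⁻¹ = z := by
    intro c hc z hz
    rw [h.CZ c hc z hz, mul_inv_cancel_right]
  have hCZ : C ≤ normalizer (Z : Set G) := by
    intro c hc
    rw [mem_normalizer_iff]
    intro z
    refine ⟨fun hz => by rw [hCZc c hc z hz]; exact hz, fun hz => ?_⟩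
    have h1 := hCZc c⁻¹ (inv_mem hc) _ hz
    have e : c⁻¹ * (c * z * c⁻¹) * c⁻¹⁻¹ = z := by group
    rw [e] at h1
    rw [h1]
    exact hz
  have hnor : (Z.subgroupOf N).Normal := by
    refine normal_subgroupOf_of_le_normalizer fun n hn => ?_
    rw [mem_normalizer_iff]
    intro z
    have hc : ∀ a ∈ N, ∀ b ∈ N, a * b = b * a := fun a ha b hb =>
      comm_of_sq h.sq ha hb
    constructor
    · intro hz
      rwa [hc n hn z (h.ZN hz), mul_inv_cancel_right]
    · intro hz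
      have h1 := hc n hn _ (h.ZN hz)
      have e : n * z * n⁻¹ = z := by
        have e1 : n * (n * z * n⁻¹) = n * z := by rw [h1]; group
        exact mul_left_cancel e1
      rwa [e] at hz
  let _ := ML.Final.conjAct h.CN hCZ
  let mk : N →* N ⧸ Z.subgroupOf N := QuotientGroup.mk' (Z.subgroupOf N)
  have hmk : Function.Surjective mk := QuotientGroup.mk'_surjective _
  have hmem : ∀ (g : C) (n : N), (g : G) * n * (g : G)⁻¹ ∈ N := fun g n =>
    (mem_normalizer_iff.1 (h.CN g.2) n).1 n.2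
  have hsm : ∀ (g : C) (n : N), g • mk n = mk ⟨(g : G) * n * (g : G)⁻¹, hmem g n⟩ := fun _ _ => rfl
  have hone : ∀ a b : N, mk a = mk b ↔ (a : G) * (b : G)⁻¹ ∈ Z := by
    intro a b
    rw [← mul_inv_eq_one, ← map_inv, ← map_mul, ← MonoidHom.mem_ker, QuotientGroup.ker_mk']
    exact Iff.rfl
  have hfix : ∀ (g : C) (n : N), g • mk n = mk n ↔ (g : G) * n * (g : G)⁻¹ * (n : G)⁻¹ ∈ Z := by
    intro g n
    rw [hsm, hone]
  set x' : N ⧸ Z.subgroupOf N := mk ⟨x, h.xN⟩ with hx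
  set Y' : Subgroup (N ⧸ Z.subgroupOf N) := (Y.subgroupOf N).map mk with hY
  have hcom : ∀ {a b : G}, a * b = b * a → a * b * a⁻¹ * b⁻¹ ∈ Z := by
    intro a b e
    rw [e, mul_inv_cancel_right, mul_inv_cancel]
    exact one_mem _
  have hsub : ∀ {X : Subgroup G}, T ≤ X → X ≤ C → ¬ 2 ∣ T.relIndex X := fun {X} h1 h2 h3 =>
    h.syl (h3.trans (Dvd.intro _ (relIndex_mul_relIndex T X C h1 h2)))
  have hTx : T ≤ C ⊓ centralizer ({x} : Set G) := le_inf h.TC fun t ht =>
    mem_centralizer_singleton_iff.2 (h.nx t (h.TC ht) (Subgroup.le_normalizer ht))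
  have hAT : A ≤ T := h.Ax.trans (o2_le_of_sylow h.two (hsub hTx inf_le_left))
  have hAC : A ≤ C := hAT.trans h.TC
  -- the kernel
  have hker : ∀ c : C, (∀ m : N ⧸ Z.subgroupOf N, c • m = m) ↔ (c : G) ∈ centralizer (N : Set G) := by
    intro c
    constructor
    · intro hc
      set K : Set G := {k | k ∈ C ∧ ∀ n ∈ N, k * n * k⁻¹ * n⁻¹ ∈ Z} with hK
      have hKC : ∀ g ∈ C, ∀ k ∈ K, g⁻¹ * k * g ∈ K := by
        rintro g hg k ⟨hk, hk2⟩
        refine ⟨mul_mem (mul_mem (inv_mem hg) hk) hg, fun n hn => ?_⟩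
        have h1 := hk2 _ ((mem_normalizer_iff.1 (h.CN hg) n).1 hn)
        have h2 := (mem_normalizer_iff.1 (hCZ (inv_mem hg)) _).1 h1
        have e : g⁻¹ * (k * (g * n * g⁻¹) * k⁻¹ * (g * n * g⁻¹)⁻¹) * g⁻¹⁻¹ =
            g⁻¹ * k * g * n * (g⁻¹ * k * g)⁻¹ * n⁻¹ := by group
        rwa [e] at h2
      have h1 : N ≤ centralizer K := by
        refine h.gen _ ?_ ?_ ?_
        · rw [mem_centralizer_iff]
          rintro k ⟨hk, hk2⟩
          exact h.stx k hk (hk2 x h.xN)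
        · intro z hz
          rw [mem_centralizer_iff]
          rintro k ⟨hk, -⟩
          exact h.CZ k hk z hz
        · intro g hg
          have key : ∀ g ∈ C, ∀ u ∈ centralizer K, g * u * g⁻¹ ∈ centralizer K := by
            intro g hg u hu
            rw [mem_centralizer_iff] at hu ⊢
            intro k hk
            have h2 := hu _ (hKC g hg k hk)
            calc k * (g * u * g⁻¹) = g * ((g⁻¹ * k * g) * u) * g⁻¹ := by group
              _ = g * (u * (g⁻¹ * k * g)) * g⁻¹ := by rw [h2]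
              _ = g * u * g⁻¹ * k := by group
          rw [mem_normalizer_iff]
          intro u
          refine ⟨key g hg u, fun hu => ?_⟩
          have h2 := key g⁻¹ (inv_mem hg) _ hu
          have e : g⁻¹ * (g * u * g⁻¹) * g⁻¹⁻¹ = u := by group
          rwa [e] at h2
      rw [mem_centralizer_iff]
      intro n hn
      exact (mem_centralizer_iff.1 (h1 hn) c ⟨c.2, fun m hm => (hfix c ⟨m, hm⟩).1 (hc _)⟩).symm
    · intro hc m
      obtain ⟨n, rfl⟩ := hmk m
      rw [hfix]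
      exact hcom (mem_centralizer_iff.1 hc n n.2).symm
  -- the stabiliser
  have hsx : ∀ c : C, c ∈ MulAction.stabilizer C x' ↔ (c : G) ∈ C ⊓ centralizer ({x} : Set G) := by
    intro c
    rw [MulAction.mem_stabilizer_iff, hfix, mem_inf, mem_centralizer_singleton_iff]
    exact ⟨fun h1 => ⟨c.2, h.stx c c.2 h1⟩, fun h1 => hcom h1.2⟩
  -- `N_C(T)`
  have hnT : ∀ g ∈ normalizer (T.subgroupOf C : Set C), (g : G) ∈ C ⊓ normalizer (T : Set G) := by
    intro g hg
    refine mem_inf.2 ⟨g.2, ?_⟩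
    rw [mem_normalizer_iff]
    intro t
    constructor
    · intro ht
      exact (mem_normalizer_iff.1 hg ⟨t, h.TC ht⟩).1 ht
    · intro ht
      have h1 : (g : G)⁻¹ * ((g : G) * t * (g : G)⁻¹) * (g : G)⁻¹⁻¹ ∈ T :=
        (mem_normalizer_iff.1 (inv_mem hg) ⟨(g : G) * t * (g : G)⁻¹, h.TC ht⟩).1 ht
      have e : (g : G)⁻¹ * ((g : G) * t * (g : G)⁻¹) * (g : G)⁻¹⁻¹ = t := by group
      rwa [e] at h1
  -- the index of the fixed space
  have hcvle : (centralizer (A : Set G)).subgroupOf N ≤ (cv (N ⧸ Z.subgroupOf N) (A.subgroupOf C : Set C)).comap mk := by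
    intro n hn a ha
    refine (hfix a n).2 ?_
    exact hcom (mem_centralizer_iff.1 (mem_subgroupOf.1 hn) a (mem_subgroupOf.1 ha))
  have hfxr : fxr C (⊤ : Subgroup (N ⧸ Z.subgroupOf N)) = (centralizer (N : Set G)).subgroupOf C := by
    ext c
    rw [mem_subgroupOf, ← hker]
    exact ⟨fun h m => h m (mem_top m), fun h m _ => h m⟩
  have hle : (cv (N ⧸ Z.subgroupOf N) (A.subgroupOf C : Set C)).index ≤
      (fxr C (⊤ : Subgroup (N ⧸ Z.subgroupOf N))).relIndex (A.subgroupOf C) := by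
    rw [hfxr, relIndex_subgroupOf hAC, ← index_comap_of_surjective _ hmk]
    exact (index_antitone hcvle).trans h.ex
  -- commuting with a representative
  have hsmY : ∀ (g : C) (y : N), (g : G) * y = y * g → g • mk y = mk y := fun g y e => (hfix g y).2 (hcom e)
  refine ⟨N ⧸ Z.subgroupOf N, inferInstance, inferInstance, inferInstance, Y', x', ?_⟩
  refine KLF.Def.Pre.mk ?_ ?_ ?_ ?_ ?_ ?_ ?_ ?_ ?_ ?_ ?_ ?_ hle ?_ h.KC
  · intro m
    obtain ⟨n, rfl⟩ := hmk m
    rw [← map_mul, ← map_one mk, hone]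
    have h1 : (n : G) * n = 1 := h.sq n n.2
    simp [h1]
  · -- generation
    set U : Subgroup G := ((orb (⊤ : Subgroup C) x').comap mk).map N.subtype with hUd
    have hUmem : ∀ a : N, (a : G) ∈ U ↔ mk a ∈ orb (⊤ : Subgroup C) x' := by
      intro a
      constructor
      · rintro ⟨b, hb, hba⟩
        rw [← (Subtype.ext hba : b = a)]
        exact hb
      · exact fun ha => ⟨a, ha, rfl⟩
    have h1 : N ≤ U := by
      refine h.gen U ((hUmem ⟨x, h.xN⟩).2 (mem_orb_self _ x')) ?_ ?_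
      · intro z hz
        refine (hUmem ⟨z, h.ZN hz⟩).2 ?_
        have e : mk ⟨z, h.ZN hz⟩ = 1 := by
          rw [← map_one mk, hone]
          simpa using hz
        rw [e]
        exact one_mem _
      · have key : ∀ g ∈ C, ∀ a ∈ U, g * a * g⁻¹ ∈ U := by
          rintro g hg a ⟨b, hb, rfl⟩
          have h2 := smul_mem_orb (g := (⟨g, hg⟩ : C)) (mem_top _) hb
          rw [hsm ⟨g, hg⟩ b] at h2
          exact (hUmem ⟨_, hmem ⟨g, hg⟩ b⟩).2 h2
        intro g hg
        rw [mem_normalizer_iff]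
        intro a
        refine ⟨key g hg a, fun ha => ?_⟩
        have h2 := key g⁻¹ (inv_mem hg) _ ha
        have e : g⁻¹ * (g * a * g⁻¹) * g⁻¹⁻¹ = a := by group
        rwa [e] at h2
    rw [eq_top_iff]
    intro m _
    obtain ⟨n, rfl⟩ := hmk m
    exact (hUmem n).1 (h1 n.2)
  · exact h.two.comap_of_injective C.subtype C.subtype_injective
  · exact h.syl
  · intro t ht
    exact hsmY t _ (h.nx t t.2 (Subgroup.le_normalizer (mem_subgroupOf.1 ht)))
  · -- `T` normalises `Y`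
    rintro t ht _ ⟨w, hw, rfl⟩
    rw [hsm]
    refine ⟨_, ?_, rfl⟩
    exact mem_subgroupOf.2 ((mem_normalizer_iff.1 (h.TY (mem_subgroupOf.1 ht)) _).1 (mem_subgroupOf.1 hw))
  · -- `N_C(T)` fixes `x`
    rintro ⟨g, hg, hgx⟩
    have h1 := hnT g hg
    exact absurd (hsmY g _ (h.nx g h1.1 h1.2)) hgx
  · -- a mover of `x` centralises `Y`
    rintro R hR ⟨r, hr, hrx⟩ p hp ho _ ⟨w, hw, rfl⟩
    refine hsmY p w (h.uni (R.map C.subtype) (minPar_map h.TC hR) (map_subtype_le R)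
      ⟨r, mem_map_of_mem C.subtype hr, fun e => hrx (hsmY r _ e)⟩ p (mem_map_of_mem C.subtype hp) ?_ w
      (mem_subgroupOf.1 hw))
    rwa [Subgroup.orderOf_coe]
  · -- the elements of odd order of `C(Y)`
    intro g ho hgY
    have ho' : Odd (orderOf (g : G)) := by rwa [Subgroup.orderOf_coe]
    refine mem_subgroupOf.2 (h.cY g g.2 ho' fun y hy => ?_)
    have h1 : (g : G) * y * (g : G)⁻¹ * y⁻¹ ∈ Z :=
      (hfix g ⟨y, h.YN hy⟩).1 (hgY _ ⟨⟨y, h.YN hy⟩, mem_subgroupOf.2 hy, rfl⟩)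
    exact comm_of_odd ho' (h.CZ g g.2 _ h1) (h.sq _ (h.ZN h1))
  · -- `A` centralises `x ^ E`
    intro a ha k hk
    rw [hx, hsm]
    exact hsmY a _ (h.cE a (mem_subgroupOf.1 ha) k (mem_subgroupOf.1 hk) k.2)
  · intro a ha
    exact Subtype.ext (h.el a (mem_subgroupOf.1 ha))
  · exact sub_o2 hsx h.Ax
  · by_contra hcon
    push Not at hcon
    apply h.mv
    intro a ha
    exact (hker ⟨a, hAC ha⟩).1 fun m => hcon ⟨a, hAC ha⟩ (mem_subgroupOf.2 ha) m

end GPre

end Cfsg.Agent.Omega.KLF.PlugG
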