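import Cfsg.Agent.Omega.KLF.PlugG

/-!
# THEOREM KLF: tools for the plug (helper302)

* `comm_of_mod` : `T` a Sylow 2-subgroup of `C` which centralises `x`, `Z` an elementary abelian 2-group centralised by
  `C` : `[c, x] ∈ Z` only for `c ∈ C_C(x)`;
* `relIndex_sup_of_le` : `|NZ : C_{NZ}(A)| = |N : C_N(A)|` for `Z ≤ C(A)`.
-/

set_option autoImplicit false

namespace Cfsg.Agent.Omega.KLF.PlugG

open Subgroup
open Cfsg.Agent.Omega.KL.PlugG (comm_of_sq)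

universe u

variable {G : Type u} [Group G]

/-- the stabiliser of `x` modulo a centralised elementary abelian 2-group is the centraliser of `x` -/
theorem comm_of_mod [Finite G] {T C Z : Subgroup G} {x : G} (hTC : T ≤ C) (syl : ¬ 2 ∣ T.relIndex C)
    (hTx : ∀ t ∈ T, t * x = x * t) (hCZ : ∀ c ∈ C, ∀ z ∈ Z, c * z = z * c) (hZ : ∀ z ∈ Z, z * z = 1) {c : G}
    (hc : c ∈ C) (hcx : c * x * c⁻¹ * x⁻¹ ∈ Z) : c * x = x * c := by
  have hmulz : ∀ a b : G, a ∈ C → a * x * a⁻¹ * x⁻¹ ∈ Z → b * x * b⁻¹ * x⁻¹ ∈ Z →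
      a * b * x * (a * b)⁻¹ * x⁻¹ = (a * x * a⁻¹ * x⁻¹) * (b * x * b⁻¹ * x⁻¹) := by
    intro a b ha ha' hb
    have h1 := hCZ a ha _ hb
    calc a * b * x * (a * b)⁻¹ * x⁻¹ = a * (b * x * b⁻¹ * x⁻¹) * (x * a⁻¹ * x⁻¹) := by group
      _ = (b * x * b⁻¹ * x⁻¹) * (a * x * a⁻¹ * x⁻¹) := by rw [h1]; group
      _ = (a * x * a⁻¹ * x⁻¹) * (b * x * b⁻¹ * x⁻¹) := comm_of_sq hZ hb ha'
  let K : Subgroup G :=
    { carrier := {g | g ∈ C ∧ g * x * g⁻¹ * x⁻¹ ∈ Z}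
      one_mem' := ⟨one_mem _, by simp⟩
      mul_mem' := by
        rintro a b ⟨ha, ha'⟩ ⟨hb, hb'⟩
        refine ⟨mul_mem ha hb, ?_⟩
        rw [hmulz a b ha ha' hb']
        exact mul_mem ha' hb'
      inv_mem' := by
        rintro a ⟨ha, ha'⟩
        refine ⟨inv_mem ha, ?_⟩
        have h1 := hCZ _ (inv_mem ha) _ (inv_mem ha')
        have e : a⁻¹ * x * a⁻¹⁻¹ * x⁻¹ = a⁻¹ * (a * x * a⁻¹ * x⁻¹)⁻¹ * a := by group
        rw [e, h1, inv_mul_cancel_right]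
        exact inv_mem ha' }
  let φ : K →* G := MonoidHom.mk' (fun g => (g : G) * x * (g : G)⁻¹ * x⁻¹) fun a b => hmulz a b a.2.1 a.2.2 b.2.2
  have hKC : K ≤ C := fun g hg => hg.1
  have hTK : T ≤ K := fun t ht => ⟨hTC ht, by
    rw [hTx t ht, mul_inv_cancel_right, mul_inv_cancel]
    exact one_mem _⟩
  have h1 : T.subgroupOf K ≤ φ.ker := by
    intro t ht
    rw [MonoidHom.mem_ker]
    change (t : G) * x * (t : G)⁻¹ * x⁻¹ = 1
    rw [hTx t (mem_subgroupOf.1 ht), mul_inv_cancel_right, mul_inv_cancel]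
  have h2 : ¬ 2 ∣ Nat.card φ.range := by
    rw [← index_ker]
    intro h
    exact syl ((h.trans (index_dvd_of_le h1)).trans (Dvd.intro _ (relIndex_mul_relIndex T K C hTK hKC)))
  have h3 : IsPGroup 2 φ.range := by
    rintro ⟨_, ⟨g, rfl⟩⟩
    refine ⟨1, Subtype.ext ?_⟩
    rw [pow_one, pow_two]
    exact hZ _ g.2.2
  have h4 : Nat.card φ.range = 1 := by
    obtain ⟨n, hn⟩ := IsPGroup.iff_card.1 h3
    rcases Nat.eq_zero_or_pos n with h0 | h0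
    · rw [hn, h0, pow_zero]
    · exact absurd (hn ▸ dvd_pow_self 2 h0.ne') h2
  have h5 : φ.range = ⊥ := card_eq_one.1 h4
  have h6 : φ ⟨c, hc, hcx⟩ ∈ φ.range := ⟨_, rfl⟩
  rw [h5, mem_bot] at h6
  change c * x * c⁻¹ * x⁻¹ = 1 at h6
  rwa [mul_inv_eq_one, mul_inv_eq_iff_eq_mul] at h6

/-- `|NZ : C_{NZ}(A)| ≤ |N : C_N(A)|` for `Z ≤ C(A)` -/
theorem relIndex_sup_le [Finite G] {N Z K : Subgroup G} (hN : ∀ n ∈ N, ∀ z ∈ Z, n * z = z * n) (hZ : Z ≤ K) :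
    K.relIndex (N ⊔ Z) ≤ K.relIndex N := by
  have hmem : ∀ g ∈ N ⊔ Z, ∃ n ∈ N, ∃ z ∈ Z, n * z = g := by
    intro g hg
    rw [sup_eq_closure_mul] at hg
    refine closure_induction (p := fun g _ => ∃ n ∈ N, ∃ z ∈ Z, n * z = g) ?_ ?_ ?_ ?_ hg
    · rintro _ ⟨n, hn, z, hz, rfl⟩
      exact ⟨n, hn, z, hz, rfl⟩
    · exact ⟨1, one_mem _, 1, one_mem _, mul_one 1⟩
    · rintro _ _ _ _ ⟨n, hn, z, hz, rfl⟩ ⟨m, hm, w, hw, rfl⟩
      refine ⟨n * m, mul_mem hn hm, z * w, mul_mem hz hw, ?_⟩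
      calc n * m * (z * w) = n * (m * z) * w := by group
        _ = n * z * (m * w) := by rw [hN m hm z hz]; group
    · rintro _ _ ⟨n, hn, z, hz, rfl⟩
      refine ⟨n⁻¹, inv_mem hn, z⁻¹, inv_mem hz, ?_⟩
      rw [← mul_inv_rev, hN n hn z hz]
  have hf : Finite (N ⧸ K.subgroupOf N) := inferInstance
  refine Nat.card_le_card_of_surjective
    (Quotient.map' (inclusion (le_sup_left : N ≤ N ⊔ Z)) ?_ : (N ⧸ K.subgroupOf N) → (N ⊔ Z : Subgroup G) ⧸ K.subgroupOf (N ⊔ Z)) ?_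
  · intro a b h
    rw [QuotientGroup.leftRel_apply] at h ⊢
    exact h
  · intro q
    induction q using QuotientGroup.induction_on with
    | H g =>
      obtain ⟨n, hn, z, hz, e⟩ := hmem g g.2
      refine ⟨QuotientGroup.mk ⟨n, hn⟩, ?_⟩
      change QuotientGroup.mk (inclusion (le_sup_left : N ≤ N ⊔ Z) ⟨n, hn⟩) = QuotientGroup.mk g
      rw [QuotientGroup.eq, mem_subgroupOf]
      change n⁻¹ * (g : G) ∈ K
      rw [← e, inv_mul_cancel_left]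
      exact hZ hz

end Cfsg.Agent.Omega.KLF.PlugG
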