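import Mathlib.GroupTheory.Sylow
import Mathlib.Tactic.Group
import Mathlib.Algebra.Group.Subgroup.Pointwise

/-!
# THEOREM KLF (#21950, helper219), (1): no transvection with centre in `x^X`

`X` faithful and irreducible on the elementary abelian 2-group `M` (written multiplicatively), `T` a Sylow
2-subgroup of `X`, `x`, `y` two vectors `≠ 1`, `C_X(xy) ≤ C_X(x)`, `N_X(T)` fixes `y`, `T` fixes `x` and `y`, and
(QP): every normal subgroup `K` of `X` which moves `x` satisfies `X = K C_X(x)`.

* `IsT u t` : `[M, t] ≤ ⟨u⟩`;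
* `Hyp T x y` : the situation;
* **`Hyp.no_tv`** : `IsT c t`, `c ∈ x^X` implies `t = 1`.
-/

set_option autoImplicit false

namespace Cfsg.Agent.Omega.KLF.Tv

open Subgroup

universe u v

variable {X : Type u} [Group X] {M : Type v} [Group M] [MulDistribMulAction X M]

/-- `[M, t] ≤ ⟨u⟩` -/
def IsT (u : M) (t : X) : Prop := ∀ m : M, t • m = m ∨ t • m = u * m

/-- The situation of (1). -/
structure Hyp (T : Subgroup X) (x y : M) : Prop where
  sq : ∀ m : M, m * m = 1
  faith : ∀ h : X, (∀ m : M, h • m = m) → h = 1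
  irr : ∀ W : Subgroup M, (∀ h : X, ∀ w ∈ W, h • w ∈ W) → W = ⊥ ∨ W = ⊤
  two : IsPGroup 2 T
  syl : ¬ 2 ∣ T.index
  x1 : x ≠ 1
  y1 : y ≠ 1
  fx : ∀ g ∈ T, g • x = x
  ny : ∀ g ∈ normalizer (T : Set X), g • y = y
  sxy : ∀ h : X, h • (x * y) = x * y → h • x = x
  qp : ∀ K : Subgroup X, K.Normal → (∃ k ∈ K, k • x ≠ x) → ∀ g : X, ∃ k ∈ K, ∃ h : X, h • x = x ∧ g = k * h

/-- `u ~ w` : some transvection with centre `u` moves `w`. -/
def Adj (X : Type u) [Group X] {M : Type v} [Group M] [MulDistribMulAction X M] (u w : M) : Prop :=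
  ∃ t : X, IsT u t ∧ t • w ≠ w

section basic

variable {u w : M} {t s : X} (hsq : ∀ m : M, m * m = 1)
include hsq

theorem comm (a b : M) : a * b = b * a := by
  have h1 : ∀ z : M, z⁻¹ = z := fun z => inv_eq_of_mul_eq_one_right (hsq z)
  calc a * b = (a * b)⁻¹ := (h1 _).symm
    _ = b⁻¹ * a⁻¹ := mul_inv_rev _ _
    _ = b * a := by rw [h1, h1]

theorem mul_self_mul (a b : M) : a * (a * b) = b := by rw [← mul_assoc, hsq, one_mul]

theorem IsT.fix (h : IsT u t) : t • u = u := by
  rcases h u with h1 | h1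
  · exact h1
  · have h2 : t • u = 1 := by rw [h1, hsq]
    have h3 : u = 1 := by
      have := congrArg (fun z => t⁻¹ • z) h2
      simpa using this
    rw [h2, h3]

theorem IsT.mul (h : IsT u t) (h' : IsT u s) : IsT u (t * s) := by
  intro m
  rw [mul_smul]
  rcases h' m with h1 | h1
  · rw [h1]
    exact h m
  · rw [h1, smul_mul', h.fix hsq]
    rcases h m with h2 | h2
    · exact Or.inr (by rw [h2])
    · exact Or.inl (by rw [h2, mul_self_mul hsq])

theorem IsT.inv (h : IsT u t) : IsT u t⁻¹ := by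
  intro m
  rcases h (t⁻¹ • m) with h1 | h1
  · rw [smul_inv_smul] at h1
    exact Or.inl h1.symm
  · rw [smul_inv_smul] at h1
    refine Or.inr ?_
    have h2 := congrArg (fun z => u * z) h1
    simp only [mul_self_mul hsq] at h2
    exact h2.symm

omit hsq in
theorem IsT.conj (h : IsT u t) (g : X) : IsT (g • u) (g * t * g⁻¹) := by
  intro m
  rw [mul_smul, mul_smul]
  rcases h (g⁻¹ • m) with h1 | h1
  · exact Or.inl (by rw [h1, smul_inv_smul])
  · exact Or.inr (by rw [h1, smul_mul', smul_inv_smul])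

omit hsq in
/-- if `t` moves `w` then `t w = u w` -/
theorem IsT.eq_of_ne (h : IsT u t) (hw : t • w ≠ w) : t • w = u * w := (h w).resolve_left hw

theorem IsT.inv_eq_of_ne (h : IsT u t) (hw : t • w ≠ w) : t⁻¹ • w = u * w := by
  refine ((h.inv hsq) w).resolve_left fun h1 => hw ?_
  have := congrArg (fun z => t • z) h1
  simpa using this.symm

/-- **the commutator** : `t` has centre `u` and moves `w`, `s` has centre `w` and fixes `u` : then `[t, s]` has centre
`u` and the axis of `s`. -/
theorem comm_tv (h : IsT u t) (hw : t • w ≠ w) (h' : IsT w s) (hu : s • u = u) :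
    IsT u (t * s * t⁻¹ * s⁻¹) ∧ ∀ m : M, (t * s * t⁻¹ * s⁻¹) • m = m ↔ s • m = m := by
  have hcm := comm hsq
  have htw : t • w = u * w := h.eq_of_ne hw
  have htiw : t⁻¹ • w = u * w := h.inv_eq_of_ne hsq hw
  have hsw : s • w = w := h'.fix hsq
  have hu1 : u ≠ 1 := by
    intro h1
    apply hw
    rw [htw, h1, one_mul]
  have key : ∀ m : M, (s • m = m → (t * s * t⁻¹ * s⁻¹) • m = m) ∧
      (s • m ≠ m → (t * s * t⁻¹ * s⁻¹) • m = u * m) := by
    intro m
    constructor
    · intro hm
      have hm' : s⁻¹ • m = m := by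
        have := congrArg (fun z => s⁻¹ • z) hm
        simpa using this.symm
      rw [mul_smul, mul_smul, mul_smul, hm']
      have h1 : s • (t⁻¹ • m) = t⁻¹ • m := by
        rcases (h.inv hsq) m with h2 | h2
        · rw [h2, hm]
        · rw [h2, smul_mul', hu, hm]
      rw [h1, smul_inv_smul]
    · intro hm
      have hm1 : s • m = w * m := h'.eq_of_ne hm
      have hm2 : s⁻¹ • m = w * m := h'.inv_eq_of_ne hsq hm
      rw [mul_smul, mul_smul, mul_smul, hm2, smul_mul', htiw]
      -- `t⁻¹ m = m'`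
      have h1 : s • (t⁻¹ • m) = w * (t⁻¹ • m) := by
        rcases (h.inv hsq) m with h2 | h2
        · rw [h2, hm1]
        · rw [h2, smul_mul', hu, hm1, ← mul_assoc, ← mul_assoc, hcm u w]
      have h2 : s • (u * w * (t⁻¹ • m)) = u * (t⁻¹ • m) := by
        rw [smul_mul', smul_mul', hu, hsw, h1, mul_assoc, mul_self_mul hsq]
      rw [h2, smul_mul', h.fix hsq, smul_inv_smul]
  refine ⟨fun m => ?_, fun m => ⟨fun hm => ?_, (key m).1⟩⟩
  · by_cases hm : s • m = m
    · exact Or.inl ((key m).1 hm)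
    · exact Or.inr ((key m).2 hm)
  · by_contra hne
    have h1 := (key m).2 hne
    rw [hm] at h1
    apply hu1
    have h2 := congrArg (fun z => z * m⁻¹) h1
    simpa using h2.symm

end basic

namespace Hyp

variable {T : Subgroup X} {x y : M} (h : Hyp T x y)
include h

/-- elements with centre `u` and the same axis are equal -/
theorem eq_of_axis {u : M} {t s : X} (ht : IsT u t) (hs : IsT u s) (hts : ∀ m : M, t • m = m ↔ s • m = m) :
    t = s := by
  have h1 : ∀ m : M, t • m = s • m := by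
    intro m
    by_cases hm : t • m = m
    · rw [hm, (hts m).1 hm]
    · rw [ht.eq_of_ne hm, hs.eq_of_ne fun h2 => hm ((hts m).2 h2)]
  have h2 : s⁻¹ * t = 1 := h.faith _ fun m => by rw [mul_smul, h1, inv_smul_smul]
  exact (inv_mul_eq_one.1 h2).symm

variable [Finite X]

/-- **(S)** adjacency is symmetric on `x^X`. -/
theorem symm {u w : M} (hu : ∃ g : X, u = g • x) (hw : ∃ g : X, w = g • x) (hA : Adj X u w) : Adj X w u := by
  classical
  obtain ⟨t, ht, htw⟩ := hA
  by_contra hno
  have hs : ∀ s : X, IsT w s → s • u = u := fun s hs => by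
    by_contra h1
    exact hno ⟨s, hs, h1⟩
  obtain ⟨gu, hgu⟩ := hu
  obtain ⟨gw, hgw⟩ := hw
  -- the two sets have the same number of elements
  let A : Set X := {s | IsT w s}
  let B : Set X := {s | IsT u s}
  have hcard : Nat.card A = Nat.card B := by
    refine Nat.card_congr
      { toFun := fun s => ⟨(gu * gw⁻¹) * s.1 * (gu * gw⁻¹)⁻¹, ?_⟩
        invFun := fun s => ⟨(gw * gu⁻¹) * s.1 * (gw * gu⁻¹)⁻¹, ?_⟩
        left_inv := fun s => Subtype.ext (by simp only; group)
        right_inv := fun s => Subtype.ext (by simp only; group) }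
    · have h1 := s.2.conj (gu * gw⁻¹)
      have h2 : (gu * gw⁻¹) • w = u := by rw [hgw, mul_smul, inv_smul_smul, hgu]
      rw [h2] at h1
      exact h1
    · have h1 := s.2.conj (gw * gu⁻¹)
      have h2 : (gw * gu⁻¹) • u = w := by rw [hgu, mul_smul, inv_smul_smul, hgw]
      rw [h2] at h1
      exact h1
  let f : A → B := fun s => ⟨t * s.1 * t⁻¹ * s.1⁻¹, (comm_tv h.sq ht htw s.2 (hs s.1 s.2)).1⟩
  have hf : Function.Injective f := by
    intro s s' hss
    have e : t * s.1 * t⁻¹ * s.1⁻¹ = t * s'.1 * t⁻¹ * s'.1⁻¹ := congrArg Subtype.val hss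
    refine Subtype.ext (h.eq_of_axis s.2 s'.2 fun m => ?_)
    rw [← (comm_tv h.sq ht htw s.2 (hs s.1 s.2)).2 m, ← (comm_tv h.sq ht htw s'.2 (hs s'.1 s'.2)).2 m, e]
  have hf' : Function.Surjective f := by
    have := (Nat.bijective_iff_injective_and_card f).2 ⟨hf, hcard⟩
    exact this.2
  obtain ⟨s, hss⟩ := hf' ⟨t, ht⟩
  have e : t * s.1 * t⁻¹ * s.1⁻¹ = t := congrArg Subtype.val hss
  have h1 := (comm_tv h.sq ht htw s.2 (hs s.1 s.2)).2 w
  rw [e] at h1
  exact htw (h1.2 (s.2.fix h.sq))

omit [Finite X] in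
/-- an element with centre `c` does not move both `x` and `y` -/
theorem not_both {c : M} {t : X} (ht : IsT c t) (hx : t • x ≠ x) : t • y = y := by
  by_contra hy
  have h1 : t • (x * y) = x * y := by
    rw [smul_mul', ht.eq_of_ne hx, ht.eq_of_ne hy, comm h.sq c y, mul_assoc, ← mul_assoc x y c,
      comm h.sq (x * y) c, mul_self_mul h.sq]
  exact hx (h.sxy t h1)

omit [Finite X] in
/-- the group of centre `c` kills `x` or `y` -/
theorem kill {c : M} (hx : Adj X c x) : ∀ t : X, IsT c t → t • y = y := by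
  obtain ⟨t, ht, htx⟩ := hx
  intro s hs
  by_contra hsy
  have h1 : s • x = x := by
    by_contra h2
    exact hsy (h.not_both hs h2)
  have h3 : t • y = y := h.not_both ht htx
  have h4 : (t * s) • x ≠ x := by
    rw [mul_smul, h1]
    exact htx
  have h5 : (t * s) • y = y := h.not_both (ht.mul h.sq hs) h4
  rw [mul_smul] at h5
  apply hsy
  have h6 := congrArg (fun z => t⁻¹ • z) h5
  simp only [inv_smul_smul] at h6
  rw [h6]
  have h7 := congrArg (fun z => t⁻¹ • z) h3
  simpa using h7.symm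

/-- `y` and `xy` are not conjugate -/
theorem fused {g : X} (hgy : g • y = x * y) : False := by
  have hF : Fact (Nat.Prime 2) := ⟨Nat.prime_two⟩
  let D : Subgroup X := MulAction.stabilizer X (x * y)
  let S : Sylow 2 X := h.two.toSylow h.syl
  have hST : (S : Subgroup X) = T := rfl
  have hTy : ∀ t ∈ T, t • y = y := fun t ht => h.ny t (le_normalizer ht)
  have hTD : (S : Subgroup X) ≤ D := fun t ht =>
    MulAction.mem_stabilizer_iff.2 (by rw [smul_mul', h.fx t ht, hTy t ht])
  have hgD : ((g • S : Sylow 2 X) : Subgroup X) ≤ D := by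
    intro z hz
    rw [Sylow.coe_subgroup_smul] at hz
    obtain ⟨t, ht, rfl⟩ := hz
    refine MulAction.mem_stabilizer_iff.2 ?_
    have h1 : g⁻¹ • (x * y) = y := by rw [← hgy, inv_smul_smul]
    change (g * t * g⁻¹) • (x * y) = x * y
    rw [mul_smul, mul_smul, h1, hTy t ht, hgy]
  obtain ⟨d, hd⟩ := MulAction.exists_smul_eq D ((g • S : Sylow 2 X).subtype hgD) (S.subtype hTD)
  have h1 : (d : X) • (g • S : Sylow 2 X) = S := by
    have h2 := congrArg Sylow.toSubgroup hd
    apply Sylow.ext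
    rw [Sylow.smul_subtype] at hd
    exact congrArg Sylow.toSubgroup (Sylow.subtype_injective hd)
  rw [smul_smul] at h1
  have h2 : (d : X) * g ∈ normalizer (T : Set X) := by
    have := Sylow.smul_eq_iff_mem_normalizer.1 h1
    exact this
  have h3 := h.ny _ h2
  rw [mul_smul, hgy, MulAction.mem_stabilizer_iff.1 d.2] at h3
  exact h.x1 (mul_eq_right.1 h3)

/-- the subgroup generated by all transvections with centre in `x^X` -/
def Rr (X : Type u) [Group X] {M : Type v} [Group M] [MulDistribMulAction X M] (x : M) : Subgroup X :=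
  closure {t | ∃ g : X, IsT (g • x) t}

omit [Finite X] h in
theorem Rr_normal : (Rr X x).Normal := by
  refine ⟨fun r hr g => ?_⟩
  refine closure_induction (p := fun r _ => g * r * g⁻¹ ∈ Rr X x) ?_ ?_ ?_ ?_ hr
  · rintro t ⟨k, hk⟩
    refine subset_closure ⟨g * k, ?_⟩
    rw [mul_smul]
    exact hk.conj g
  · simp
  · intro a b _ _ ha hb
    have : g * (a * b) * g⁻¹ = (g * a * g⁻¹) * (g * b * g⁻¹) := by group
    rw [this]
    exact mul_mem ha hb
  · intro a _ ha
    have : g * a⁻¹ * g⁻¹ = (g * a * g⁻¹)⁻¹ := by group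
    rw [this]
    exact inv_mem ha

omit [Finite X] in
/-- a normal subgroup which fixes a vector `≠ 1` is trivial -/
theorem normal_eq_bot {K : Subgroup X} (hK : K.Normal) {m : M} (hm : m ≠ 1) (hf : ∀ k ∈ K, k • m = m) : K = ⊥ := by
  let W : Subgroup M :=
    { carrier := {w | ∀ k ∈ K, k • w = w}
      mul_mem' := fun {a b} ha hb k hk => by rw [smul_mul', ha k hk, hb k hk]
      one_mem' := fun k _ => smul_one k
      inv_mem' := fun {a} ha k hk => by rw [smul_inv', ha k hk] }
  have hW : ∀ g : X, ∀ w ∈ W, g • w ∈ W := by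
    intro g w hw k hk
    have h1 : g⁻¹ * k * g ∈ K := by
      have := hK.conj_mem k hk g⁻¹
      simpa using this
    have h2 := hw _ h1
    rw [mul_smul, mul_smul] at h2
    have h3 := congrArg (fun z => g • z) h2
    simpa using h3
  have hmW : m ∈ W := hf
  rcases h.irr W hW with h1 | h1
  · rw [h1] at hmW
    exact absurd (mem_bot.1 hmW) hm
  · refine (eq_bot_iff_forall K).2 fun k hk => h.faith k fun w => ?_
    have : w ∈ W := h1 ▸ mem_top w
    exact this k hk

variable {c₀ : M} {t₀ : X} (hc₀ : ∃ g : X, c₀ = g • x) (ht₀ : IsT c₀ t₀) (hne : t₀ ≠ 1)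
include hc₀ ht₀ hne

omit [Finite X] h in
theorem Rr_ne : Rr X x ≠ ⊥ := by
  intro h1
  obtain ⟨g, hg⟩ := hc₀
  have h2 : t₀ ∈ Rr X x := subset_closure ⟨g, hg ▸ ht₀⟩
  rw [h1] at h2
  exact hne (mem_bot.1 h2)

omit [Finite X] in
/-- some element with centre in `x^X` moves `m ≠ 1` -/
theorem exists_adj {m : M} (hm : m ≠ 1) : ∃ g : X, Adj X (g • x) m := by
  by_contra hno
  have h1 : ∀ k ∈ Rr X x, k • m = m := by
    intro k hk
    refine closure_induction (p := fun k _ => k • m = m) ?_ ?_ ?_ ?_ hk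
    · rintro t ⟨g, hg⟩
      by_contra h2
      exact hno ⟨g, t, hg, h2⟩
    · exact one_smul _ _
    · intro a b _ _ ha hb
      rw [mul_smul, hb, ha]
    · intro a _ ha
      exact inv_smul_eq_iff.2 ha.symm
  exact Rr_ne hc₀ ht₀ hne (h.normal_eq_bot Rr_normal hm h1)

/-- the points at distance at most 2 from `x` -/
def Near (X : Type u) [Group X] {M : Type v} [Group M] [MulDistribMulAction X M] (x w : M) : Prop :=
  w = x ∨ Adj X x w ∨ ∃ e : M, (∃ g : X, e = g • x) ∧ Adj X x e ∧ Adj X e w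

omit hc₀ ht₀ hne in
/-- a neighbour of a point near to `x` is near to `x` -/
theorem near_step {w w' : M} (hw : ∃ g : X, w = g • x) (hw' : ∃ g : X, w' = g • x) (hn : Near X x w)
    (hA : Adj X w w') : Near X x w' := by
  rcases hn with h1 | h1 | ⟨e, he, h1, h2⟩
  · exact Or.inr (Or.inl (h1 ▸ hA))
  · exact Or.inr (Or.inr ⟨w, hw, h1, hA⟩)
  · by_cases h3 : Adj X x w
    · exact Or.inr (Or.inr ⟨w, hw, h3, hA⟩)
    · by_cases h4 : Adj X e w'
      · exact Or.inr (Or.inr ⟨e, he, h1, h4⟩)
      · -- `e w` is a common neighbour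
        obtain ⟨s, hs, hsw⟩ := h2
        have hew : ∃ g : X, e * w = g • x := by
          obtain ⟨g, hg⟩ := hw
          refine ⟨s * g, ?_⟩
          rw [mul_smul, ← hg, hs.eq_of_ne hsw]
        have h5 : Adj X x (e * w) := by
          obtain ⟨t, ht, hte⟩ := h1
          refine ⟨t, ht, ?_⟩
          have htw : t • w = w := by
            by_contra h6
            exact h3 ⟨t, ht, h6⟩
          rw [smul_mul', htw]
          intro h6
          exact hte (mul_right_cancel h6)
        have h6 : Adj X w' (e * w) := by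
          obtain ⟨t, ht, htw⟩ := h.symm hw hw' hA
          refine ⟨t, ht, ?_⟩
          have hte : t • e = e := by
            by_contra h7
            exact h4 (h.symm hw' he ⟨t, ht, h7⟩)
          rw [smul_mul', hte]
          intro h7
          exact htw (mul_left_cancel h7)
        exact Or.inr (Or.inr ⟨e * w, hew, h5, h.symm hw' hew h6⟩)

omit hc₀ ht₀ hne in
/-- an element with centre in `x^X` does not change nearness -/
theorem near_tv {u w : M} {t : X} (hu : ∃ g : X, u = g • x) (ht : IsT u t) (hw : ∃ g : X, w = g • x)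
    (hn : Near X x w) : Near X x (t • w) := by
  by_cases htw : t • w = w
  · rwa [htw]
  · have h1 : Adj X u w := ⟨t, ht, htw⟩
    have hu' : Near X x u := h.near_step hw hu hn (h.symm hu hw h1)
    have hw' : ∃ g : X, t • w = g • x := by
      obtain ⟨g, hg⟩ := hw
      exact ⟨t * g, by rw [mul_smul, ← hg]⟩
    refine h.near_step hu hw' hu' ⟨t, ht, fun h2 => htw ?_⟩
    exact MulAction.injective t h2

/-- **all points are at distance at most 2 from `x`** -/
theorem near_all (g : X) : Near X x (g • x) := by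
  -- the elements of `Rr` preserve nearness
  have key : ∀ k ∈ Rr X x, ∀ w : M, (∃ g : X, w = g • x) → Near X x w → Near X x (k • w) := by
    intro k hk
    refine closure_induction (p := fun k _ => ∀ w : M, (∃ g : X, w = g • x) → Near X x w → Near X x (k • w))
      ?_ ?_ ?_ ?_ hk
    · rintro t ⟨g, hg⟩ w hw hn
      exact h.near_tv ⟨g, rfl⟩ hg hw hn
    · intro w _ hn
      rwa [one_smul]
    · intro a b _ _ ha hb w hw hn
      rw [mul_smul]
      refine ha _ ?_ (hb w hw hn)
      obtain ⟨g, hg⟩ := hw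
      exact ⟨b * g, by rw [mul_smul, hg]⟩
    · intro a _ ha w hw hn
      -- `a⁻¹` is a power of `a`
      have h1 : ∀ n : ℕ, ∀ w : M, (∃ g : X, w = g • x) → Near X x w → Near X x (a ^ n • w) := by
        intro n
        induction n with
        | zero => intro w _ hn; rwa [pow_zero, one_smul]
        | succ n ih =>
          intro w hw hn
          rw [pow_succ, mul_smul]
          refine ih _ ?_ (ha w hw hn)
          obtain ⟨g, hg⟩ := hw
          exact ⟨a * g, by rw [mul_smul, hg]⟩
      have h2 : a⁻¹ = a ^ (orderOf a - 1) := by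
        rw [inv_eq_iff_mul_eq_one, ← pow_succ', Nat.sub_add_cancel (orderOf_pos a), pow_orderOf_eq_one]
      rw [h2]
      exact h1 _ w hw hn
  have hmv : ∃ k ∈ Rr X x, k • x ≠ x := by
    by_contra hno
    push Not at hno
    exact Rr_ne hc₀ ht₀ hne (h.normal_eq_bot Rr_normal h.x1 hno)
  obtain ⟨k, hk, d, hd, rfl⟩ := h.qp _ Rr_normal hmv g
  rw [mul_smul, hd]
  exact key k hk x ⟨1, (one_smul _ _).symm⟩ (Or.inl rfl)

omit [Finite X] hc₀ ht₀ hne in
/-- **`𝒫_x ⊥ 𝒫_y`** -/
theorem perp {a c : M} (hax : Adj X a x) (hcy : Adj X c y)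
    (hac : Adj X a c) : False := by
  have hkill : ∀ {c : M}, Adj X c y → ∀ t : X, IsT c t → t • x = x := by
    intro c hcy t ht
    by_contra htx
    obtain ⟨s, hs, hsy⟩ := hcy
    exact hsy (h.kill ⟨t, ht, htx⟩ s hs)
  obtain ⟨t, ht, htc⟩ := hac
  have hcy' := hcy
  obtain ⟨s, hs, hsy⟩ := hcy
  -- `s` moves `a`
  have hsa : s • a ≠ a := by
    intro hsa
    obtain ⟨h1, h2⟩ := comm_tv h.sq ht htc hs hsa
    have h3 := h.kill hax _ h1
    exact hsy ((h2 y).1 h3)
  -- `a c ∈ 𝒫_y`
  have h1 : Adj X (t • c) y := by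
    refine ⟨t * s * t⁻¹, hs.conj t, ?_⟩
    have hty : t • y = y := h.kill hax t ht
    have htiy : t⁻¹ • y = y := inv_smul_eq_iff.2 hty.symm
    rw [mul_smul, mul_smul, htiy]
    intro h2
    apply hsy
    have h3 := congrArg (fun z => t⁻¹ • z) h2
    simpa [htiy] using h3
  -- `a c ∈ 𝒫_x`
  have h2 : Adj X (s • a) x := by
    obtain ⟨r, hr, hrx⟩ := hax
    refine ⟨s * r * s⁻¹, hr.conj s, ?_⟩
    have hsx : s • x = x := hkill hcy' s hs
    have hsix : s⁻¹ • x = x := inv_smul_eq_iff.2 hsx.symm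
    rw [mul_smul, mul_smul, hsix]
    intro h2
    apply hrx
    have h3 := congrArg (fun z => s⁻¹ • z) h2
    simpa [hsix] using h3
  have h3 : t • c = s • a := by
    rw [ht.eq_of_ne htc, hs.eq_of_ne hsa, comm h.sq]
  rw [h3] at h1
  obtain ⟨r, hr, hry⟩ := h1
  exact hry (h.kill h2 r hr)

/-- **(1)** : there is no transvection with centre in `x^X`. -/
theorem false_of : False := by
  obtain ⟨g, hg⟩ := h.exists_adj hc₀ ht₀ hne h.y1
  have hc : ∃ k : X, g • x = k • x := ⟨g, rfl⟩
  have hx : ∃ k : X, x = k • x := ⟨1, (one_smul _ _).symm⟩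
  -- the centre is not `x`
  have hcx : g • x ≠ x := by
    intro h1
    rw [h1] at hg
    obtain ⟨t, ht, hty⟩ := hg
    exact h.fused (ht.eq_of_ne hty)
  have hno : ¬ Adj X (g • x) x := by
    intro h1
    obtain ⟨t, ht, hty⟩ := hg
    exact hty (h.kill h1 t ht)
  rcases h.near_all hc₀ ht₀ hne g with h1 | h1 | ⟨e, he, h1, h2⟩
  · exact hcx h1
  · exact hno (h.symm hx hc h1)
  · exact h.perp (h.symm hx he h1) hg h2

omit hc₀ ht₀ hne in
/-- **THEOREM KLF (1).** An element with centre in `x^X` is trivial. -/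
theorem no_tv {c : M} {t : X} (hc : ∃ g : X, c = g • x) (ht : IsT c t) : t = 1 := by
  by_contra hne
  exact h.false_of hc ht hne

end Hyp

end Cfsg.Agent.Omega.KLF.Tv
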